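import Groth.Prelude.Def_LogNCD
import Mathlib.Topology.Sheaves.SheafCondition.UniqueGluing

/-!
# Elementary calculus of sections, derivations and equations of the components of a divisor
-/

set_option autoImplicit false

universe u

open CategoryTheory AlgebraicGeometry Opposite TopologicalSpace

noncomputable section

namespace Groth.Agent.LogModGeo

variable {X S : Scheme.{u}}

/-- Restriction of sections of a module. -/
abbrev rs (M : X.Modules) {U V : X.Opens} (h : V ≤ U) : Γ(M, U) →+ Γ(M, V) :=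
  (M.presheaf.map (homOfLE h).op).hom

/-- Restriction of functions. -/
abbrev rf {U V : X.Opens} (h : V ≤ U) : Γ(X, U) →+* Γ(X, V) :=
  (X.presheaf.map (homOfLE h).op).hom

theorem rs_rs (M : X.Modules) {U V W : X.Opens} (h : V ≤ U) (h' : W ≤ V) (x : Γ(M, U)) :
    rs M h' (rs M h x) = rs M (h'.trans h) x := by
  show (M.presheaf.map (homOfLE h).op ≫ M.presheaf.map (homOfLE h').op) x = _
  rw [← Functor.map_comp]
  rfl

theorem rf_rf {U V W : X.Opens} (h : V ≤ U) (h' : W ≤ V) (a : Γ(X, U)) :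
    rf h' (rf h a) = rf (h'.trans h) a := by
  show (X.presheaf.map (homOfLE h).op ≫ X.presheaf.map (homOfLE h').op) a = _
  rw [← Functor.map_comp]
  rfl

theorem rs_refl (M : X.Modules) {U : X.Opens} (x : Γ(M, U)) : rs M (le_refl U) x = x := by
  show M.presheaf.map (𝟙 (op U)) x = x
  rw [CategoryTheory.Functor.map_id]
  rfl

theorem rf_refl {U : X.Opens} (a : Γ(X, U)) : rf (le_refl U) a = a := by
  show X.presheaf.map (𝟙 (op U)) a = a
  rw [CategoryTheory.Functor.map_id]
  rfl

theorem rs_smul (M : X.Modules) {U V : X.Opens} (h : V ≤ U) (a : Γ(X, U)) (x : Γ(M, U)) :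
    rs M h (a • x) = rf h a • rs M h x := M.map_smul (homOfLE h) a x

theorem app_rs {M N : X.Modules} (φ : M ⟶ N) {U V : X.Opens} (h : V ≤ U) (x : Γ(M, U)) :
    φ.app V (rs M h x) = rs N h (φ.app U x) :=
  congr($(φ.mapPresheaf.naturality (homOfLE h).op) x)

/-- Sections which agree locally are equal. -/
theorem eq_of_locally (M : X.Modules) {U : X.Opens} (s t : Γ(M, U))
    (H : ∀ x ∈ U, ∃ (V : X.Opens) (h : V ≤ U), x ∈ V ∧ rs M h s = rs M h t) : s = t := by
  choose V hle hx heq using H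
  exact TopCat.Sheaf.eq_of_locally_eq' (⟨M.presheaf, M.isSheaf⟩ : TopCat.Sheaf AddCommGrpCat X)
    (fun x : U => V x.1 x.2) U (fun x => homOfLE (hle x.1 x.2))
    (fun y hy => Opens.mem_iSup.2 ⟨⟨y, hy⟩, hx y hy⟩) s t fun x => heq x.1 x.2

/-- Functions which agree locally are equal. -/
theorem eq_of_locally_fun {U : X.Opens} (a b : Γ(X, U))
    (H : ∀ x ∈ U, ∃ (V : X.Opens) (h : V ≤ U), x ∈ V ∧ rf h a = rf h b) : a = b := by
  choose V hle hx heq using H
  exact X.sheaf.eq_of_locally_eq' (fun x : U => V x.1 x.2) U (fun x => homOfLE (hle x.1 x.2))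
    (fun y hy => Opens.mem_iSup.2 ⟨⟨y, hy⟩, hx y hy⟩) a b fun x => heq x.1 x.2

/-- Compatible local sections glue. -/
theorem exists_glue (M : X.Modules) {U : X.Opens} {ι : Type u} (V : ι → X.Opens) (hle : ∀ i, V i ≤ U)
    (hcov : ∀ x ∈ U, ∃ i, x ∈ V i) (sf : ∀ i, Γ(M, V i))
    (hc : ∀ i j, rs M (inf_le_left : V i ⊓ V j ≤ V i) (sf i) = rs M (inf_le_right : V i ⊓ V j ≤ V j) (sf j)) :
    ∃ s : Γ(M, U), ∀ i, rs M (hle i) s = sf i := by
  obtain ⟨s, hs, -⟩ := TopCat.Sheaf.existsUnique_gluing' (⟨M.presheaf, M.isSheaf⟩ : TopCat.Sheaf AddCommGrpCat X)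
    V U (fun i => homOfLE (hle i)) (fun y hy => Opens.mem_iSup.2 (hcov y hy)) sf fun i j => hc i j
  exact ⟨s, hs⟩

theorem exists_affine_nhd {W : X.Opens} {x : X} (hx : x ∈ W) : ∃ U : X.affineOpens, x ∈ U.1 ∧ U.1 ≤ W := by
  obtain ⟨_, ⟨U, hU, rfl⟩, hxU, hle⟩ := X.isBasis_affineOpens.exists_subset_of_mem_open hx W.2
  exact ⟨⟨U, hU⟩, hxU, hle⟩

section Der

variable {f : X ⟶ S} {M : X.Modules} (δ : OmegaSh.Der f M)

theorem d_mul (U : X.Opens) (a b : Γ(X, U)) : δ.app U (a * b) = a • δ.app U b + b • δ.app U a :=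
  δ.d_mul (X := op U) a b

theorem d_one (U : X.Opens) : δ.app U 1 = 0 := δ.d_one (op U)

theorem d_res {U V : X.Opens} (h : V ≤ U) (a : Γ(X, U)) : δ.app V (rf h a) = rs M h (δ.app U a) :=
  δ.d_map (homOfLE h).op a

theorem d_of_isUnit_prod {U : X.Opens} (u : Γ(X, U)) (v : Γ(X, U)) :
    δ.app U (u * v) = u • δ.app U v + v • δ.app U u := d_mul δ U u v

end Der

section Quot

variable (I : X.IdealSheafData)

/-- The unit section of a closed subscheme, in the section type of the module library. -/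
abbrev one (U : X.Opens) : Γ(ClSub.quotMod I, U) := LogNCD.oneOn I U

theorem smul_one_eq (U : X.Opens) (a : Γ(X, U)) :
    a • one I U = (ClSub.toSubscheme I).app U (OmegaSh.strSect X U a) := by
  show a • (ClSub.toSubscheme I).app U (OmegaSh.strSect X U 1) = _
  exact ((ClSub.toSubscheme I).app_smul a _).symm.trans (congrArg _ (mul_one a))

theorem smul_one_eq_zero_iff (U : X.affineOpens) (a : Γ(X, U.1)) : a • one I U.1 = 0 ↔ a ∈ I.ideal U := by
  rw [← I.ker_subschemeι_app, RingHom.mem_ker, smul_one_eq]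
  rfl

theorem exists_smul_one (U : X.affineOpens) (q : Γ(ClSub.quotMod I, U.1)) : ∃ a : Γ(X, U.1), a • one I U.1 = q := by
  obtain ⟨a, ha⟩ := I.subschemeι.app_surjective U.1 U.2 q
  exact ⟨a, (smul_one_eq I U.1 a).trans ha⟩

theorem one_res {U V : X.Opens} (h : V ≤ U) : rs (ClSub.quotMod I) h (one I U) = one I V := by
  refine (app_rs (ClSub.toSubscheme I) h (OmegaSh.strSect X U 1)).symm.trans ?_
  refine congrArg ((ClSub.toSubscheme I).app V) ?_
  show rf h 1 = (1 : Γ(X, V))
  exact map_one _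

end Quot

section Gens

variable {r : ℕ} (D : Fin r → X.IdealSheafData)

/-- `g` are equations of the components on the affine open `U`. -/
def Gens (U : X.affineOpens) (g : Fin r → Γ(X, U.1)) : Prop := ∀ i, (D i).ideal U = Ideal.span {g i}

variable {D}

theorem Gens.res {U : X.affineOpens} {g : Fin r → Γ(X, U.1)} (hg : Gens D U g) (V : X.affineOpens)
    (h : V.1 ≤ U.1) : Gens D V fun i => rf h (g i) := fun i => by
  rw [← (D i).map_ideal h, hg i, Ideal.map_span, Set.image_singleton]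
  rfl

/-- The equations are units off the supports. -/
theorem Gens.isUnit_res {U : X.affineOpens} {g : Fin r → Γ(X, U.1)} (hg : Gens D U g) (i : Fin r)
    {V : X.Opens} (h : V ≤ U.1) (hV : ∀ x ∈ V, x ∉ (D i).support) : IsUnit (rf h (g i)) := by
  have hle : V ≤ X.basicOpen (g i) := fun x hx => by
    by_contra hb
    refine hV x hx ?_
    have hz : x ∈ X.zeroLocus (U := U.1) ((D i).ideal U : Set Γ(X, U.1)) := by
      rw [hg i, Scheme.zeroLocus_span, Scheme.zeroLocus_singleton]
      exact hb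
    exact ((D i).coe_support_inter U ▸ (⟨hz, h hx⟩ : x ∈ X.zeroLocus (U := U.1) ((D i).ideal U : Set Γ(X, U.1)) ∩ U) : x ∈ ((D i).support : Set X) ∩ U).1
  rw [← rf_rf (X.basicOpen_le (g i)) hle]
  exact (X.toRingedSpace.isUnit_res_basicOpen (g i)).map (rf hle)

end Gens

end Groth.Agent.LogModGeo
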