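import Groth.Agent.LogModGeo.Basic

/-!
# Morphisms of modules from locally total, single valued relations
-/

set_option autoImplicit false

universe u

open CategoryTheory AlgebraicGeometry Opposite TopologicalSpace

noncomputable section

namespace Groth.Agent.LogModGeo

variable {X : Scheme.{u}} {M N : X.Modules}

/-- A locally total single valued linear relation between the sections of two modules is the graph of a morphism. -/
theorem exists_hom_of_rel (R : ∀ U : X.Opens, Γ(M, U) → Γ(N, U) → Prop)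
    (hres : ∀ {U V : X.Opens} (h : V ≤ U) (x : Γ(M, U)) (y : Γ(N, U)), R U x y → R V (rs M h x) (rs N h y))
    (hadd : ∀ (U : X.Opens) (x x' : Γ(M, U)) (y y' : Γ(N, U)), R U x y → R U x' y' → R U (x + x') (y + y'))
    (hsmul : ∀ (U : X.Opens) (a : Γ(X, U)) (x : Γ(M, U)) (y : Γ(N, U)), R U x y → R U (a • x) (a • y))
    (huniq : ∀ (U : X.Opens) (x : Γ(M, U)) (y y' : Γ(N, U)), R U x y → R U x y' → y = y')
    (htot : ∀ (U : X.Opens) (x : Γ(M, U)) (p : X), p ∈ U →
      ∃ (V : X.Opens) (h : V ≤ U), p ∈ V ∧ ∃ y, R V (rs M h x) y) :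
    ∃ φ : M ⟶ N, ∀ (U : X.Opens) (x : Γ(M, U)) (y : Γ(N, U)), R U x y → φ.app U x = y := by
  -- the value is characterised by its restrictions
  have key : ∀ (U : X.Opens) (x : Γ(M, U)), ∃ y : Γ(N, U), ∀ (V : X.Opens) (h : V ≤ U) (z : Γ(N, V)),
      R V (rs M h x) z → rs N h y = z := by
    intro U x
    choose V hle hp z hz using fun p : U => htot U x p.1 p.2
    have hc : ∀ p q : U, rs N (inf_le_left : V p ⊓ V q ≤ V p) (z p) = rs N (inf_le_right : V p ⊓ V q ≤ V q) (z q) := by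
      intro p q
      have h1 := hres (inf_le_left : V p ⊓ V q ≤ V p) _ _ (hz p)
      have h2 := hres (inf_le_right : V p ⊓ V q ≤ V q) _ _ (hz q)
      rw [rs_rs] at h1 h2
      exact huniq _ _ _ _ h1 h2
    obtain ⟨y, hy⟩ := exists_glue N V hle (fun p hpU => ⟨⟨p, hpU⟩, hp ⟨p, hpU⟩⟩) z hc
    refine ⟨y, fun W hW w hw => eq_of_locally N _ _ fun p hpW => ?_⟩
    refine ⟨V ⟨p, hW hpW⟩ ⊓ W, inf_le_right, ⟨hp _, hpW⟩, huniq _ _ _ _ ?_ (hres inf_le_right _ _ hw)⟩
    have h1 := hres (inf_le_left : V ⟨p, hW hpW⟩ ⊓ W ≤ _) _ _ (hz ⟨p, hW hpW⟩)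
    rw [← hy] at h1
    rw [rs_rs] at h1 ⊢
    rw [rs_rs] at h1 ⊢
    exact h1
  choose F hF using key
  have ext : ∀ (U : X.Opens) (x : Γ(M, U)) (y : Γ(N, U)),
      (∀ (V : X.Opens) (h : V ≤ U) (z : Γ(N, V)), R V (rs M h x) z → rs N h y = z) → F U x = y := by
    intro U x y hy
    refine eq_of_locally N _ _ fun p hp => ?_
    obtain ⟨V, h, hpV, z, hz⟩ := htot U x p hp
    exact ⟨V, h, hpV, (hF U x V h z hz).trans (hy V h z hz).symm⟩
  have hFadd : ∀ (U : X.Opens) (x x' : Γ(M, U)), F U (x + x') = F U x + F U x' := fun U x x' => by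
    refine eq_of_locally N _ _ fun p hp => ?_
    obtain ⟨V₁, h₁, hp₁, z, hz⟩ := htot U x p hp
    obtain ⟨V₂, h₂, hp₂, z', hz'⟩ := htot U x' p hp
    refine ⟨V₁ ⊓ V₂, inf_le_left.trans h₁, ⟨hp₁, hp₂⟩, ?_⟩
    have a := hres (inf_le_left : V₁ ⊓ V₂ ≤ V₁) _ _ hz
    have b := hres (inf_le_right : V₁ ⊓ V₂ ≤ V₂) _ _ hz'
    rw [rs_rs] at a b
    have c := hadd _ _ _ _ _ a b
    rw [← map_add] at c
    rw [hF U _ _ _ _ c, map_add, hF U x _ _ _ a, hF U x' _ _ _ b]
  have hFsmul : ∀ (U : X.Opens) (a : Γ(X, U)) (x : Γ(M, U)), F U (a • x) = a • F U x := fun U a x => by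
    refine eq_of_locally N _ _ fun p hp => ?_
    obtain ⟨V, h, hpV, z, hz⟩ := htot U x p hp
    have c := hsmul _ (rf h a) _ _ hz
    rw [← rs_smul] at c
    exact ⟨V, h, hpV, by rw [hF U _ _ h _ c, rs_smul, hF U x _ h _ hz]⟩
  have hnat : ∀ {U V : X.Opens} (h : V ≤ U) (x : Γ(M, U)), F V (rs M h x) = rs N h (F U x) := fun h x => by
    refine ext _ _ _ fun W hW z hz => ?_
    rw [rs_rs] at hz ⊢
    exact hF _ x W _ z hz
  refine ⟨⟨PresheafOfModules.homMk
      { app := fun U => AddCommGrpCat.ofHom (AddMonoidHom.mk' (F U.unop) (hFadd U.unop))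
        naturality := fun U V i => by
          ext x
          exact hnat (leOfHom i.unop) x }
      fun U a x => hFsmul U.unop a x⟩, fun U x y hy => ?_⟩
  exact ext U x y fun V h z hz => huniq _ _ _ _ (hres h x y hy) hz

/-- The value of a morphism built from a relation, when the relation holds locally. -/
theorem app_eq_of_locally (φ : M ⟶ N) {U : X.Opens} (x : Γ(M, U)) (y : Γ(N, U))
    (H : ∀ p ∈ U, ∃ (V : X.Opens) (h : V ≤ U), p ∈ V ∧ φ.app V (rs M h x) = rs N h y) : φ.app U x = y := by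
  refine eq_of_locally N _ _ fun p hp => ?_
  obtain ⟨V, h, hpV, e⟩ := H p hp
  exact ⟨V, h, hpV, (app_rs φ h x).symm.trans e⟩

end Groth.Agent.LogModGeo
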