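import Groth.Agent.LogModGeo.Generic
import Groth.Agent.QCoh.LocFree
import Groth.Agent.QCoh.Extension
import Groth.Agent.QCoh.DevissageIdeal
import Groth.Agent.QCoh.VanIdeal
import Mathlib.AlgebraicGeometry.Morphisms.Smooth
import Mathlib.RingTheory.Smooth.StandardSmoothCotangent

/-!
# Forms with logarithmic poles are locally free
-/

set_option autoImplicit false

universe u

open CategoryTheory CategoryTheory.Limits AlgebraicGeometry Opposite TopologicalSpace

noncomputable section

namespace Groth.Agent.LogModGeo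

variable {X S : Scheme.{u}} {f : X ⟶ S} {Ω' : X.Modules} {d : OmegaSh.Der f Ω'} {r : ℕ}
  {D : Fin r → X.IdealSheafData}

attribute [local instance] Abelian.hasFiniteBiproducts

theorem isQCoh_quotMod (I : X.IdealSheafData) : Coh.IsQCoh (ClSub.quotMod I) :=
  QCoh.isQCoh_pushforward I.subschemeι (QCoh.isQCoh_structureModule (X := I.subscheme))

theorem isQCoh_pi_quotMod (D : Fin r → X.IdealSheafData) :
    Coh.IsQCoh (∏ᶜ fun j => ClSub.quotMod (D j)) := by
  let T : ULift.{u} (Fin r) → X.Modules := fun j => ClSub.quotMod (D j.down)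
  refine (QCoh.isQCoh_iff_iso ?_).1 (QCoh.isQCoh_biproduct T fun j => isQCoh_quotMod _)
  exact biproduct.isoProduct T ≪≫ Pi.whiskerEquiv (g := fun j => ClSub.quotMod (D j)) Equiv.ulift fun _ => Iso.refl _

variable (Λ : LogNCD.LogMod d D) (hd : OmegaSh.IsUniversal d) (hD : LogNCD.IsNCD D f)
include hd hD

theorem isQCoh_L : Coh.IsQCoh Λ.L := by
  have h : Λ.ι ≫ Pi.lift Λ.res = 0 := by
    refine Pi.hom_ext _ _ fun j => ?_
    rw [Category.assoc, Pi.lift_π, Λ.res_ι j, zero_comp]
  exact QCoh.isQCoh_X₂ (shortExact_res Λ hd hD h) (Synt29.OmegaStalk.isQCoh_of_isUniversal hd) (isQCoh_pi_quotMod D)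

omit hD in
/-- In a chart forms with logarithmic poles have a basis. -/
theorem Chart.exists_logBasis {U : X.affineOpens} (C : Chart (d := d) (D := D) U) :
    ∃ b : Module.Basis (Fin C.n) Γ(X, U.1) Γ(Λ.L, U.1),
      ∀ l, (if ∃ i, C.comp i = some l then C.v l else 1) • b l = Λ.ι.app U.1 (d.app U.1 (C.v l)) := by
  classical
  obtain ⟨S₀⟩ := exists_dlogSystem Λ C.gens_eqn
  let cand : Fin C.n → Γ(Λ.L, U.1) := fun l =>
    if h : ∃ i, C.comp i = some l then S₀.dl h.choose else Λ.ι.app U.1 (d.app U.1 (C.v l))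
  let c : Fin C.n → Γ(X, U.1) := fun l => if ∃ i, C.comp i = some l then C.v l else 1
  have hcand : ∀ i l, C.comp i = some l → cand l = S₀.dl i := fun i l h => by
    have h' : ∃ j, C.comp j = some l := ⟨i, h⟩
    rw [show cand l = S₀.dl h'.choose from dif_pos h', C.comp_inj _ _ l h'.choose_spec h]
  have hcv : ∀ l, c l • cand l = Λ.ι.app U.1 (d.app U.1 (C.v l)) := fun l => by
    by_cases h : ∃ i, C.comp i = some l
    · obtain ⟨i, hi⟩ := h
      rw [show c l = C.v l from if_pos ⟨i, hi⟩, hcand i l hi]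
      have := S₀.smul_dl i
      rwa [Chart.eqn, hi, Option.elim_some] at this
    · simp [c, cand, h]
  have hreg : ∀ l, IsRegular (c l) := fun l => by
    simp only [c]
    split_ifs
    exacts [C.regular l, isRegular_one]
  have hindep : LinearIndependent Γ(X, U.1) cand := by
    rw [Fintype.linearIndependent_iff]
    intro a ha l
    let P : Fin C.n → Γ(X, U.1) := fun m => ∏ j ∈ Finset.univ.erase m, c j
    have h1 : ∑ m, (a m * P m) • C.basis m = 0 := by
      apply ι_app_injective Λ U.1
      rw [map_zero, map_sum]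
      calc ∑ m, Λ.ι.app U.1 ((a m * P m) • C.basis m)
          = ∑ m, (∏ j, c j) • a m • cand m := Finset.sum_congr rfl fun m _ => by
            rw [Scheme.Modules.Hom.app_smul, C.basis_apply, ← hcv, ← mul_smul, ← mul_smul,
              ← Finset.prod_erase_mul _ _ (Finset.mem_univ m)]
            congr 1
            simp only [P]
            ring
        _ = 0 := by rw [← Finset.smul_sum, ha, smul_zero]
    have h2 := Fintype.linearIndependent_iff.1 C.basis.linearIndependent _ h1 l
    exact (IsRegular.prod fun m _ => hreg m).right (h2.trans (zero_mul _).symm)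
  have hsp : ⊤ ≤ Submodule.span Γ(X, U.1) (Set.range cand) := by
    intro x _
    obtain ⟨η, a, rfl⟩ := S₀.decomp x
    refine add_mem ?_ (sum_mem fun i _ => Submodule.smul_mem _ _ ?_)
    · rw [← C.basis.sum_repr η, map_sum]
      refine sum_mem fun m _ => ?_
      rw [Scheme.Modules.Hom.app_smul, C.basis_apply, ← hcv]
      exact Submodule.smul_mem _ _ (Submodule.smul_mem _ _ (Submodule.subset_span ⟨m, rfl⟩))
    · match h : C.comp i with
      | some l => exact Submodule.subset_span ⟨l, hcand i l h⟩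
      | none =>
        have h0 := S₀.smul_dl i
        rw [Chart.eqn, h, Option.elim_none, one_smul, d_one, map_zero] at h0
        rw [h0]
        exact zero_mem _
  exact ⟨Module.Basis.mk hindep hsp, fun l => by rw [Module.Basis.mk_apply]; exact hcv l⟩

theorem isFinLocFreeOfRank_L (n : ℕ) [SmoothOfRelativeDimension n f] : FlatMod.IsFinLocFreeOfRank n Λ.L := by
  intro x
  obtain ⟨T, hT, V, hV, hxV, e, hstd⟩ := SmoothOfRelativeDimension.exists_isStandardSmoothOfRelativeDimension (n := n) (f := f) x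
  have hΩ : Coh.IsQCoh Ω' := Synt29.OmegaStalk.isQCoh_of_isUniversal hd
  have hfree : Nonempty (Ω'.restrict V.ι ≅ FlatMod.freeMod (V : Scheme.{u}) n) := by
    let _ := (f.appLE T V e).hom.toAlgebra
    have : Algebra.IsStandardSmoothOfRelativeDimension n Γ(S, T) Γ(X, V) := hstd
    have : Algebra.IsStandardSmooth Γ(S, T) Γ(X, V) :=
      Algebra.IsStandardSmoothOfRelativeDimension.isStandardSmooth n
    have : Nontrivial Γ(X, V) := by
      refine ⟨⟨0, 1, fun h => ?_⟩⟩
      have h1 := congrArg (X.presheaf.germ V x hxV) h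
      rw [map_zero, map_one] at h1
      exact zero_ne_one h1
    have hr : Module.finrank Γ(X, V) Ω[Γ(X, V)⁄Γ(S, T)] = n := by
      have := Algebra.IsStandardSmoothOfRelativeDimension.rank_kaehlerDifferential (R := Γ(S, T)) (S := Γ(X, V)) n
      simp [Module.finrank, this]
    let b := (Module.finBasisOfFinrankEq Γ(X, V) Ω[Γ(X, V)⁄Γ(S, T)] hr).reindex Equiv.ulift.symm
    obtain ⟨l⟩ := Synt29.OmegaStalk.exists_linearEquiv_sections hd hV hT e
    exact QCoh.exists_free_restrict hΩ hV (l.trans b.repr)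
  obtain ⟨eΩ⟩ := hfree
  have hL := isQCoh_L Λ hd hD
  by_cases hx : Nonempty (LogNCD.Through D x)
  · obtain ⟨U, hxU, hUV, ⟨C⟩⟩ := exists_chart hd hD hx (show x ∈ V from hxV)
    have : Nontrivial Γ(X, U.1) := by
      refine ⟨⟨0, 1, fun h => ?_⟩⟩
      have h1 := congrArg (X.presheaf.germ U.1 x hxU) h
      rw [map_zero, map_one] at h1
      exact zero_ne_one h1
    obtain ⟨l⟩ := QCoh.free_sections U.2 hUV eΩ
    have hn : C.n = n := by
      have h1 := Module.finrank_eq_card_basis C.basis
      have h2 := Module.finrank_eq_card_basis (Module.Basis.ofRepr l)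
      simp only [Fintype.card_fin, Fintype.card_ulift] at h1 h2
      exact h1.symm.trans h2
    subst hn
    obtain ⟨b, -⟩ := C.exists_logBasis Λ hd
    exact ⟨U.1, hxU, QCoh.exists_free_restrict hL U.2 (b.reindex Equiv.ulift.symm).repr⟩
  · have hxA : x ∈ away D := (mem_away D).2 fun i hi => hx ⟨⟨i, hi⟩⟩
    obtain ⟨U, hxU, hU⟩ := exists_affine_nhd (W := V ⊓ away D) ⟨hxV, hxA⟩
    have hg : Gens D U fun _ => 1 := fun i => by
      rw [Ideal.span_singleton_one, ideal_eq_top_of_le_away (hU.trans inf_le_right) i]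
    obtain ⟨S₀⟩ := exists_dlogSystem Λ hg
    have hsurj : Function.Surjective (Λ.ι.app U.1) := fun y =>
      S₀.exists_eq_ι hg y fun j => by
        obtain ⟨a, ha⟩ := exists_smul_one (D j) U ((Λ.res j).app U.1 y)
        rw [← ha, smul_one_eq_zero_iff, ideal_eq_top_of_le_away (hU.trans inf_le_right) j]
        trivial
    obtain ⟨l⟩ := QCoh.free_sections U.2 (hU.trans inf_le_left) eΩ
    let eι : Γ(Ω', U.1) ≃ₗ[Γ(X, U.1)] Γ(Λ.L, U.1) :=
      LinearEquiv.ofBijective
        { toFun := Λ.ι.app U.1
          map_add' := map_add _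
          map_smul' := fun c y => Λ.ι.app_smul c y } ⟨ι_app_injective Λ U.1, hsurj⟩
    exact ⟨U.1, hxU, QCoh.exists_free_restrict hL U.2 (eι.symm.trans l)⟩

end Groth.Agent.LogModGeo
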