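import Groth.Agent.SurfInt.Ideal
import Groth.Agent.SurfInt.Basic
import Groth.Agent.AmpleVan.Uniform
import Groth.Agent.QCoh.OpenSub
import Groth.Prelude.Def_ClSub2
import Groth.Prelude.Def_Coh

/-!
# Vanishing for the inverses of powers of an ideal with ample inverse
-/

set_option autoImplicit false

universe u

open CategoryTheory CategoryTheory.Limits AlgebraicGeometry Opposite TopologicalSpace

noncomputable section

namespace Groth.Agent.LogModGeo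

variable {X : Scheme.{u}}

theorem isInverseOf_unique {I M M' : X.Modules} (h : ClSub.IsInverseOf M I) (h' : ClSub.IsInverseOf M' I) :
    Nonempty (M ≅ M') := by
  obtain ⟨e⟩ := h
  obtain ⟨e'⟩ := h'
  exact ⟨(SurfInt.tUnit M).symm ≪≫ SurfInt.tMapR M (e'.symm ≪≫ SurfInt.tComm M' I) ≪≫
    (SurfInt.tAssoc M I M').symm ≪≫ SurfInt.tMapL e M' ≪≫ SurfInt.tUnitL M'⟩

theorem isInverseOf_tensor {A B I J : X.Modules} (h : ClSub.IsInverseOf A I) (h' : ClSub.IsInverseOf B J) :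
    ClSub.IsInverseOf (CohB1.tensorMod A B) (CohB1.tensorMod I J) := by
  obtain ⟨e⟩ := h
  obtain ⟨e'⟩ := h'
  exact ⟨SurfInt.tAssoc A B _ ≪≫ SurfInt.tMapR A ((SurfInt.tMapR B (SurfInt.tComm I J)) ≪≫
    (SurfInt.tAssoc B J I).symm ≪≫ SurfInt.tMapL e' I ≪≫ SurfInt.tUnitL I) ≪≫ e⟩

/-- Powers of an inverse are inverses of powers. -/
theorem isInverseOf_tensorPow {J : X.IdealSheafData} (hJ : ∀ ν : ℕ, BlowUp.IsEffCartierIdeal (J ^ ν))
    {A : X.Modules} (hA : ClSub.IsInverseOf A (ClSub.idealMod J)) (ν : ℕ) :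
    ClSub.IsInverseOf (CohB1.tensorPow A (ν + 1)) (ClSub.idealMod (J ^ (ν + 1))) := by
  induction ν with
  | zero =>
    obtain ⟨e⟩ := hA
    rw [zero_add, pow_one]
    exact ⟨SurfInt.tMapL (SurfInt.tUnitL A) _ ≪≫ e⟩
  | succ n ih =>
    obtain ⟨m⟩ := SurfInt.nonempty_idealMod_mul (hJ (n + 1)) (by simpa using hJ 1 : BlowUp.IsEffCartierIdeal J)
    obtain ⟨e⟩ := isInverseOf_tensor ih hA
    exact ⟨SurfInt.tMapR _ ((eqToIso (congrArg ClSub.idealMod (pow_succ J (n + 1)))) ≪≫ m) ≪≫ e⟩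

theorem exists_vanishing_ample (k : Type u) [Field k] [X.Over (Spec (CommRingCat.of k))]
    [IsProper (X ↘ Spec (CommRingCat.of k))] {r : ℕ} (D : Fin r → X.IdealSheafData)
    (hcart : ∀ ν : Fin r → ℕ, BlowUp.IsEffCartierIdeal (∏ j, D j ^ ν j)) (μ : Fin r → ℕ)
    {A : X.Modules} (hA : CohB1.IsAmple A) (hAB : ClSub.IsInverseOf A (ClSub.idealMod (∏ j, D j ^ μ j)))
    (G : X.Modules) (hG : Coh.IsCoh G) (q : ℕ) (hq : 0 < q) :
    ∃ ν₀ : ℕ, 0 < ν₀ ∧ ∀ ν : ℕ, 0 < ν → ν₀ ∣ ν →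
      ∀ M : X.Modules, ClSub.IsInverseOf M (ClSub.idealMod (∏ j, D j ^ (ν * μ j))) →
        Subsingleton (Coh.HH X (CohB1.tensorMod G M) q) := by
  have : IsLocallyNoetherian X := LocallyOfFiniteType.isLocallyNoetherian (X ↘ Spec (CommRingCat.of k))
  have : CompactSpace X := AmpleVan.compactSpace_of_proper (A := k)
  obtain ⟨d₀, hd⟩ := AmpleVan.exists_vanishing (A := k) hA hG
  refine ⟨d₀ + 1, by omega, fun ν hν hdvd M hM => ?_⟩
  have hle : d₀ + 1 ≤ ν := Nat.le_of_dvd hν hdvd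
  obtain ⟨m, rfl⟩ : ∃ m, ν = m + 1 := ⟨ν - 1, by omega⟩
  have hpow : ∀ a : ℕ, ∏ j, D j ^ (a * μ j) = (∏ j, D j ^ μ j) ^ a := fun a => by
    rw [← Finset.prod_pow]
    exact Finset.prod_congr rfl fun j _ => by rw [← pow_mul, mul_comm]
  rw [hpow] at hM
  obtain ⟨e⟩ := isInverseOf_unique hM
    (isInverseOf_tensorPow (J := ∏ j, D j ^ μ j) (fun a => hpow a ▸ hcart _) hAB m)
  obtain ⟨p, rfl⟩ : ∃ p, q = p + 1 := ⟨q - 1, by omega⟩
  exact QCoh.subsingleton_HH_of_iso (SurfInt.tMapR G e.symm) _ (hd (m + 1) (by omega) p)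

end Groth.Agent.LogModGeo
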