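import Groth.Agent.LogModGeo.Decomp
import Groth.Agent.LogModGeo.Glue
import Groth.Agent.QCoh.Submod

/-!
# Construction of the module of forms with logarithmic poles
-/

set_option autoImplicit false

universe u

open CategoryTheory AlgebraicGeometry Opposite TopologicalSpace

noncomputable section

namespace Groth.Agent.LogModGeo

variable {X S : Scheme.{u}} {f : X ⟶ S} {Ω' : X.Modules} (d : OmegaSh.Der f Ω') {r : ℕ}
  (D : Fin r → X.IdealSheafData) (hd : OmegaSh.IsUniversal d) (hD : LogNCD.IsNCD D f)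

/-- A section off the divisor has logarithmic poles. -/
def HasLogPoles (U : X.Opens) (s : Γ(poles (away D) Ω', U)) : Prop :=
  ∀ x ∈ U, ∃ (V : X.affineOpens) (h : V.1 ≤ U), x ∈ V.1 ∧ ∃ g η a, Dec d D V (rs _ h s) g η a

variable {d D}
include hd hD

/-- Two decompositions on a common affine neighbourhood with the same equations. -/
theorem exists_common {U : X.Opens} {s t : Γ(poles (away D) Ω', U)} (hs : HasLogPoles d D U s)
    (ht : HasLogPoles d D U t) {x : X} (hx : x ∈ U) :
    ∃ (V : X.affineOpens) (h : V.1 ≤ U), x ∈ V.1 ∧ ∃ g η a η' a',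
      Dec d D V (rs _ h s) g η a ∧ Dec d D V (rs _ h t) g η' a' := by
  obtain ⟨V₁, h₁, hx₁, g, η, a, H⟩ := hs x hx
  obtain ⟨V₂, h₂, hx₂, g', η', a', H'⟩ := ht x hx
  obtain ⟨V, hxV, hV⟩ := exists_affine_nhd (W := V₁.1 ⊓ V₂.1) ⟨hx₁, hx₂⟩
  have K := H.res V (hV.trans inf_le_left)
  have K' := H'.res V (hV.trans inf_le_right)
  rw [rs_rs] at K K'
  obtain ⟨η'', K''⟩ := K'.change hd hD K.gens
  exact ⟨V, (hV.trans inf_le_left).trans h₁, hxV, _, _, _, _, _, K, K''⟩

variable (d D)

/-- The submodule of sections with logarithmic poles. -/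
def logSub : QCoh.SubMod (poles (away D) Ω') where
  mem U :=
    { carrier := {s | HasLogPoles d D U s}
      zero_mem' := fun x hx => by
        obtain ⟨V, hxV, hVU, ⟨N⟩⟩ := exists_nice hd hD hx
        exact ⟨V, hVU, hxV, N.g, 0, 0, by rw [map_zero]; exact Dec.zero N.gens⟩
      add_mem' := fun {s t} hs ht x hx => by
        obtain ⟨V, h, hxV, g, η, a, η', a', H, H'⟩ := exists_common hd hD hs ht hx
        exact ⟨V, h, hxV, g, _, _, by rw [map_add]; exact H.add H'⟩
      smul_mem' := fun c s hs x hx => by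
        obtain ⟨V, h, hxV, g, η, a, H⟩ := hs x hx
        exact ⟨V, h, hxV, g, _, _, by rw [rs_smul]; exact H.smul (rf h c)⟩ }
  map_mem := fun {U V} i {s} hs x hx => by
    obtain ⟨W₀, h₀, hx₀, g, η, a, H⟩ := hs x (i hx)
    obtain ⟨W, hxW, hW⟩ := exists_affine_nhd (W := W₀.1 ⊓ V) ⟨hx₀, hx⟩
    refine ⟨W, hW.trans inf_le_right, hxW, fun j => rf (hW.trans inf_le_left) (g j),
      rs Ω' (hW.trans inf_le_left) η, fun j => rf (hW.trans inf_le_left) (a j), ?_⟩
    show Dec d D W (rs _ _ (rs _ i s)) _ _ _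
    rw [rs_rs, ← rs_rs _ h₀ (hW.trans inf_le_left)]
    exact H.res W _
  of_locally := fun U s H x hx => by
    obtain ⟨V, i, hxV, hs⟩ := H x hx
    obtain ⟨W, h, hxW, g, η, a, K⟩ := hs x hxV
    refine ⟨W, h.trans i, hxW, g, η, a, ?_⟩
    have K' : Dec d D W (rs _ h (rs _ i s)) g η a := K
    rwa [rs_rs] at K'

/-- Forms without poles have logarithmic poles. -/
theorem tP_mem (U : X.Opens) (ω : Γ(Ω', U)) : HasLogPoles d D U (tP D Ω' U ω) := fun x hx => by
  obtain ⟨V, hxV, hVU, ⟨N⟩⟩ := exists_nice hd hD hx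
  refine ⟨V, hVU, hxV, N.g, rs Ω' hVU ω, 0, N.gens, ?_⟩
  have e1 : rs _ hVU (tP D Ω' U ω) = tP D Ω' V.1 (rs Ω' hVU ω) := (app_rs _ hVU ω).symm
  rw [e1]
  simp only [form, Pi.zero_apply, zero_mul, zero_smul, Finset.sum_const_zero, add_zero]
  exact ((toPoles (away D) Ω').app_smul _ _).symm

/-- The module of forms with logarithmic poles. -/
def logModule : X.Modules := (logSub d D hd hD).toModules

/-- The inclusion into the sections off the divisor. -/
def logIncl : logModule d D hd hD ⟶ poles (away D) Ω' := (logSub d D hd hD).ι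

/-- The inclusion of the forms without poles. -/
def logι : Ω' ⟶ logModule d D hd hD :=
  ⟨PresheafOfModules.homMk
    { app := fun U => AddCommGrpCat.ofHom
        { toFun := fun ω => (⟨tP D Ω' U.unop ω, tP_mem d D hd hD U.unop ω⟩ : (logSub d D hd hD).mem U.unop)
          map_zero' := Subtype.ext (map_zero (tP D Ω' U.unop))
          map_add' := fun a b => Subtype.ext (map_add (tP D Ω' U.unop) a b) }
      naturality := fun U V i => by
        ext x
        exact Subtype.ext (app_rs (toPoles (away D) Ω') (leOfHom i.unop) x) }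
    fun U c x => Subtype.ext ((toPoles (away D) Ω').app_smul c x)⟩

theorem logIncl_injective (U : X.Opens) : Function.Injective ((logIncl d D hd hD).app U) :=
  (logSub d D hd hD).ι_app_injective U

theorem logIncl_ι (U : X.Opens) (ω : Γ(Ω', U)) :
    (logIncl d D hd hD).app U ((logι d D hd hD).app U ω) = tP D Ω' U ω := rfl

theorem exists_res (i : Fin r) : ∃ φ : logModule d D hd hD ⟶ ClSub.quotMod (D i),
    ∀ (V : X.affineOpens) (t : Γ(logModule d D hd hD, V.1)) (g : Fin r → Γ(X, V.1)) (η : Γ(Ω', V.1))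
      (a : Fin r → Γ(X, V.1)), Dec d D V ((logIncl d D hd hD).app V.1 t) g η a →
      φ.app V.1 t = a i • one (D i) V.1 := by
  let R : ∀ U : X.Opens, Γ(logModule d D hd hD, U) → Γ(ClSub.quotMod (D i), U) → Prop := fun U t y =>
    ∀ x ∈ U, ∃ (V : X.affineOpens) (h : V.1 ≤ U), x ∈ V.1 ∧ ∃ g η a,
      Dec d D V (rs _ h ((logIncl d D hd hD).app U t)) g η a ∧ rs _ h y = a i • one (D i) V.1
  refine Exists.elim (exists_hom_of_rel R ?_ ?_ ?_ ?_ ?_) ?_
  rotate_left 5
  · intro φ hφ
    refine ⟨φ, fun V t g η a H => hφ _ _ _ fun x hx => ⟨V, le_rfl, hx, g, η, a, ?_, ?_⟩⟩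
    · rw [rs_refl]; exact H
    · exact rs_refl _ _
  · intro U V h t y hR x hx
    obtain ⟨W₀, h₀, hx₀, g, η, a, H, hy⟩ := hR x (h hx)
    obtain ⟨W, hxW, hW⟩ := exists_affine_nhd (W := W₀.1 ⊓ V) ⟨hx₀, hx⟩
    refine ⟨W, hW.trans inf_le_right, hxW, fun j => rf (hW.trans inf_le_left) (g j),
      rs Ω' (hW.trans inf_le_left) η, fun j => rf (hW.trans inf_le_left) (a j), ?_, ?_⟩
    · rw [app_rs, rs_rs, ← rs_rs _ h₀ (hW.trans inf_le_left)]
      exact H.res W _
    · rw [rs_rs, ← rs_rs _ h₀ (hW.trans inf_le_left), hy, rs_smul, one_res]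
  · intro U t t' y y' hR hR' x hx
    obtain ⟨V₁, h₁, hx₁, g, η, a, H, hy⟩ := hR x hx
    obtain ⟨V₂, h₂, hx₂, g', η', a', H', hy'⟩ := hR' x hx
    obtain ⟨V, hxV, hV⟩ := exists_affine_nhd (W := V₁.1 ⊓ V₂.1) ⟨hx₁, hx₂⟩
    have K := H.res V (hV.trans inf_le_left)
    have K' := H'.res V (hV.trans inf_le_right)
    rw [rs_rs] at K K'
    obtain ⟨η'', K''⟩ := K'.change hd hD K.gens
    have a1 := congrArg (rs _ (hV.trans inf_le_left)) hy
    have a2 := congrArg (rs _ (hV.trans inf_le_right)) hy'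
    rw [rs_rs, rs_smul, one_res] at a1 a2
    refine ⟨V, (hV.trans inf_le_left).trans h₁, hxV, _, _, _, by rw [map_add, map_add]; exact K.add K'', ?_⟩
    rw [map_add, a1, a2, Pi.add_apply, add_smul]
  · intro U c t y hR x hx
    obtain ⟨V, h, hxV, g, η, a, H, hy⟩ := hR x hx
    refine ⟨V, h, hxV, g, _, _, by rw [Scheme.Modules.Hom.app_smul, rs_smul]; exact H.smul (rf h c), ?_⟩
    rw [rs_smul, hy, Pi.smul_apply, smul_eq_mul, mul_smul]
  · intro U t y y' hR hR'
    refine eq_of_locally _ _ _ fun x hx => ?_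
    obtain ⟨V₁, h₁, hx₁, g, η, a, H, hy⟩ := hR x hx
    obtain ⟨V₂, h₂, hx₂, g', η', a', H', hy'⟩ := hR' x hx
    obtain ⟨V, hxV, hV⟩ := exists_affine_nhd (W := V₁.1 ⊓ V₂.1) ⟨hx₁, hx₂⟩
    have K := H.res V (hV.trans inf_le_left)
    have K' := H'.res V (hV.trans inf_le_right)
    rw [rs_rs] at K K'
    have a1 := congrArg (rs _ (hV.trans inf_le_left)) hy
    have a2 := congrArg (rs _ (hV.trans inf_le_right)) hy'
    rw [rs_rs, rs_smul, one_res] at a1 a2
    exact ⟨V.1, (hV.trans inf_le_left).trans h₁, hxV, a1.trans ((K.residue_eq hd hD K' i).trans a2.symm)⟩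
  · intro U t x hx
    obtain ⟨V, h, hxV, g, η, a, H⟩ := (logSub d D hd hD).ι_app_mem U t x hx
    refine ⟨V.1, h, hxV, a i • one (D i) V.1, fun p hp => ⟨V, le_rfl, hp, g, η, a, ?_, rs_refl _ _⟩⟩
    rw [rs_refl, app_rs]
    exact H

theorem nonempty_logMod : Nonempty (LogNCD.LogMod d D) := by
  classical
  choose res hres using exists_res d D hd hD
  have hres_ι : ∀ (i : Fin r) (U : X.Opens) (ω : Γ(Ω', U)), (res i).app U ((logι d D hd hD).app U ω) = 0 := by
    intro i U ω
    refine app_eq_of_locally _ _ _ fun x hx => ?_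
    obtain ⟨V, hxV, hVU, ⟨N⟩⟩ := exists_nice hd hD hx
    refine ⟨V.1, hVU, hxV, ?_⟩
    rw [map_zero, ← app_rs]
    refine (hres i V _ N.g (rs Ω' hVU ω) 0 ⟨N.gens, ?_⟩).trans (by rw [Pi.zero_apply, zero_smul])
    rw [logIncl_ι]
    simp only [form, Pi.zero_apply, zero_mul, zero_smul, Finset.sum_const_zero, add_zero]
    exact ((toPoles (away D) Ω').app_smul _ _).symm
  refine ⟨⟨logModule d D hd hD, logι d D hd hD, res, ?_, fun i => ?_, fun U g hg => ?_⟩⟩
  · refine QCoh.mono_of_app_injective _ fun U a b h => tP_injective hd hD U ?_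
    exact congrArg ((logIncl d D hd hD).app U) h
  · ext U ω
    exact hres_ι i U ω
  · have hu : ∀ (a : Γ(X, U.1)), IsUnit (rf (tr_le (away D) U.1) a) → ∀ s t : Γ(logModule d D hd hD, U.1),
        a • s = a • t → s = t := fun a ha s t h => by
      refine logIncl_injective d D hd hD U.1 (smul_left_cancel (away D) Ω' ha ?_)
      have := congrArg ((logIncl d D hd hD).app U.1) h
      rwa [Scheme.Modules.Hom.app_smul, Scheme.Modules.Hom.app_smul] at this
    have hg' : Gens D U g := hg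
    have hG := hg'.isUnit_away (tr_le (away D) U.1) (tr_le_left (away D) U.1)
    have hgi : ∀ i, IsUnit (rf (tr_le (away D) U.1) (g i)) := fun i =>
      hg'.isUnit_res i _ fun x hx => (mem_away D).1 (tr_le_left (away D) U.1 hx) i
    have hex : ∀ i, ∃ t : Γ(logModule d D hd hD, U.1),
        g i • (logIncl d D hd hD).app U.1 t = tP D Ω' U.1 (d.app U.1 (g i)) ∧
          Dec d D U ((logIncl d D hd hD).app U.1 t) g 0 (Pi.single i 1) := by
      intro i
      obtain ⟨s, hs⟩ := exists_smul_eq (away D) Ω' (hgi i) (tP D Ω' U.1 (d.app U.1 (g i)))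
      have H : Dec d D U s g 0 (Pi.single i 1) := ⟨hg', by
        rw [form_single, ← mul_cof g i, mul_comm, mul_smul, hs]
        exact ((toPoles (away D) Ω').app_smul _ _).symm⟩
      obtain ⟨t, rfl⟩ := (logSub d D hd hD).exists_app_eq (U := U.1) (s := s) fun x hx =>
        ⟨U, le_rfl, hx, g, 0, Pi.single i 1, by rw [rs_refl]; exact H⟩
      exact ⟨t, hs, H⟩
    choose dl hdl hdec using hex
    have hdl' : ∀ i, g i • dl i = (logι d D hd hD).app U.1 (d.app U.1 (g i)) := fun i => by
      refine logIncl_injective d D hd hD U.1 ?_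
      rw [Scheme.Modules.Hom.app_smul]
      exact hdl i
    have hone : ∀ i j, (res j).app U.1 (dl i) = (Pi.single i 1 : Fin r → Γ(X, U.1)) j • one (D j) U.1 :=
      fun i j => hres j U _ g 0 _ (hdec i)
    refine ⟨fun x hx => hu _ hG x 0 (hx.trans (smul_zero _).symm), dl, hdl', ?_,
      fun i => (hone i i).trans (by rw [Pi.single_eq_same, one_smul]),
      fun i j hij => (hone i j).trans (by rw [Pi.single_eq_of_ne (Ne.symm hij), zero_smul]; rfl)⟩
    rw [eq_top_iff]
    intro (s : Γ(logModule d D hd hD, U.1)) _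
    choose a ha using fun i => exists_smul_one (D i) U ((res i).app U.1 s)
    let s' : Γ(logModule d D hd hD, U.1) := s - ∑ i, a i • dl i
    have hz : ∀ j, (res j).app U.1 s' = 0 := fun j => by
      rw [map_sub, map_sum, sub_eq_zero, ← ha j]
      simp only [Scheme.Modules.Hom.app_smul, hone]
      rw [Finset.sum_eq_single j]
      · rw [Pi.single_eq_same, one_smul]
      · intro b _ hb
        rw [Pi.single_eq_of_ne (Ne.symm hb), zero_smul, smul_zero]
      · intro h
        exact absurd (Finset.mem_univ j) h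
    -- a section without residues has no poles
    have hker : ∃ ω : Γ(Ω', U.1), (logι d D hd hD).app U.1 ω = s' := by
      have hloc : ∀ x : U.1, ∃ (V : X.affineOpens) (h : V.1 ≤ U.1), x.1 ∈ V.1 ∧
          ∃ ω : Γ(Ω', V.1), (logι d D hd hD).app V.1 ω = rs _ h s' := by
        intro x
        obtain ⟨V, h, hxV, g', η, b, H⟩ := (logSub d D hd hD).ι_app_mem U.1 s' x.1 x.2
        refine ⟨V, h, hxV, ?_⟩
        have H' : Dec d D V ((logIncl d D hd hD).app V.1 (rs _ h s')) g' η b := by rw [app_rs]; exact H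
        have hb : ∀ j, b j ∈ (D j).ideal V := fun j => by
          rw [← smul_one_eq_zero_iff, ← hres j V _ g' η b H', app_rs, hz, map_zero]
        have hc : ∀ j, ∃ c, b j = g' j * c := fun j => Ideal.mem_span_singleton.1 (H'.gens j ▸ hb j)
        choose c hc using hc
        refine ⟨η + ∑ j, c j • d.app V.1 (g' j), ?_⟩
        have hGV := H'.gens.isUnit_away (tr_le (away D) V.1) (tr_le_left (away D) V.1)
        refine logIncl_injective d D hd hD V.1 (smul_left_cancel (away D) Ω' hGV (Eq.trans ?_ H'.eq.symm))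
        show (∏ i, g' i) • tP D Ω' V.1 _ = _
        have e2 : (∏ i, g' i) • (η + ∑ j, c j • d.app V.1 (g' j)) = form d V.1 g' η b := by
          simp only [form, smul_add, Finset.smul_sum, ← mul_smul]
          congr 1
          refine Finset.sum_congr rfl fun j _ => ?_
          rw [hc j, ← mul_cof g' j]
          congr 1
          ring
        rw [← e2]
        exact ((toPoles (away D) Ω').app_smul _ _).symm
      choose V h hxV ω hω using hloc
      obtain ⟨w, hw⟩ := exists_glue Ω' (fun x => (V x).1) h (fun y hy => ⟨⟨y, hy⟩, hxV ⟨y, hy⟩⟩) ω fun p q => by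
        refine tP_injective hd hD _ ?_
        rw [← logIncl_ι d D hd hD, ← logIncl_ι d D hd hD, app_rs (logι d D hd hD), app_rs (logι d D hd hD), hω, hω,
          rs_rs, rs_rs]
      refine ⟨w, eq_of_locally _ _ _ fun y hy => ⟨(V ⟨y, hy⟩).1, h _, hxV ⟨y, hy⟩, ?_⟩⟩
      rw [← app_rs, hw, hω]
    obtain ⟨ω, hω⟩ := hker
    have hs : s = (logι d D hd hD).app U.1 ω + ∑ i, a i • dl i := by rw [hω]; exact (sub_add_cancel _ _).symm
    rw [hs]
    exact add_mem (Submodule.subset_span (Or.inl ⟨ω, rfl⟩))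
      (sum_mem fun i _ => Submodule.smul_mem _ _ (Submodule.subset_span (Or.inr ⟨i, rfl⟩)))

end Groth.Agent.LogModGeo
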