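import Groth.Prelude.Def_LogNCD
import Groth.Agent.Synt29.OmegaAffine
import Mathlib.RingTheory.Etale.Kaehler
import Mathlib.RingTheory.Kaehler.Polynomial

/-!
# Etale coordinates over an arbitrary base give a basis of exact forms on small affine opens
-/

set_option autoImplicit false

universe u

open CategoryTheory AlgebraicGeometry Opposite TopologicalSpace

noncomputable section

namespace Groth.Agent.LogModGeo

variable {X S : Scheme.{u}} (f : X ⟶ S)

theorem topIso_homOfLE_appTop (W : X.Opens) {U : X.Opens} (h : U ≤ W) (s : Γ(W, ⊤)) :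
    U.topIso.hom ((X.homOfLE h).appTop s) = LogNCD.sectOn W h s := by
  rw [LogNCD.sectOn_apply, ← CommRingCat.comp_apply, ← CommRingCat.comp_apply]
  refine DFunLike.congr_fun (congrArg CommRingCat.Hom.hom ?_) s
  simp only [Scheme.Hom.appTop, Scheme.homOfLE_app, Scheme.Opens.topIso_hom, eqToHom_op]
  erw [← Functor.map_comp, ← Functor.map_comp]
  rfl

theorem sectOn_res (W : X.Opens) {U V : X.Opens} (h : V ≤ U) (hU : U ≤ W) (s : Γ(W, ⊤)) :
    X.presheaf.map (homOfLE h).op (LogNCD.sectOn W hU s) = LogNCD.sectOn W (h.trans hU) s := by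
  rw [LogNCD.sectOn_apply, LogNCD.sectOn_apply, ← CommRingCat.comp_apply, ← CommRingCat.comp_apply,
    ← CommRingCat.comp_apply]
  refine DFunLike.congr_fun (congrArg CommRingCat.Hom.hom ?_) s
  rw [← Functor.map_comp]
  rfl

/-- The polynomial map of a family of functions, with scalars the functions on an open of the base. -/
def polyHom {ι : Type u} (W : X.Opens) (v : ι → Γ(W, ⊤)) {U : X.Opens} (h : U ≤ W) {T : S.Opens}
    (e : U ≤ f ⁻¹ᵁ T) : MvPolynomial ι Γ(S, T) →+* Γ(X, U) :=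
  MvPolynomial.eval₂Hom (f.appLE T U e).hom fun i => LogNCD.sectOn W h (v i)

theorem etale_polyHom {ι : Type u} (W : X.Opens) (v : ι → Γ(W, ⊤))
    (het : Etale (AffineSpace.homOfVector (W.ι ≫ f) v)) {U : X.Opens} (hU : IsAffineOpen U) (h : U ≤ W)
    {T : S.Opens} (hT : IsAffineOpen T) (e : U ≤ f ⁻¹ᵁ T) : (polyHom f W v h e).Etale := by
  have : IsAffine (U : Scheme.{u}) := hU
  have : IsAffine (T : Scheme.{u}) := hT
  let g : (U : Scheme.{u}) ⟶ 𝔸(ι; T) :=
    AffineSpace.homOfVector (f.resLE T U e) ((X.homOfLE h).appTop ∘ v)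
  have : IsOpenImmersion (AffineSpace.map ι T.ι) :=
    MorphismProperty.of_isPullback (AffineSpace.isPullback_map T.ι).flip inferInstance
  have hcomp : g ≫ AffineSpace.map ι T.ι = X.homOfLE h ≫ AffineSpace.homOfVector (W.ι ≫ f) v := by
    refine AffineSpace.hom_ext ?_ fun i => ?_
    · simp only [g, Category.assoc, AffineSpace.map_over, AffineSpace.homOfVector_over,
        AffineSpace.homOfVector_over_assoc, Scheme.Hom.resLE_comp_ι, Scheme.homOfLE_ι_assoc]
    · rw [Scheme.Hom.comp_appTop, Scheme.Hom.comp_appTop, CommRingCat.comp_apply, CommRingCat.comp_apply,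
        AffineSpace.map_appTop_coord]
      simp only [g, AffineSpace.homOfVector_appTop_coord, Function.comp_apply]
  have : Etale (g ≫ AffineSpace.map ι T.ι) := by rw [hcomp]; infer_instance
  have : Etale g := Etale.of_comp g (AffineSpace.map ι T.ι)
  have hgt : RingHom.Etale g.appTop.hom := HasRingHomProperty.appTop @Etale g inferInstance
  let m : MvPolynomial ι Γ(S, T) ≃+* MvPolynomial ι Γ((T : Scheme.{u}), ⊤) :=
    MvPolynomial.mapEquiv ι T.topIso.symm.commRingCatIsoToRingEquiv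
  have : IsIso (AffineSpace.isoOfIsAffine ι (T : Scheme.{u})).hom.appTop :=
    inferInstanceAs (IsIso ((AffineSpace.isoOfIsAffine ι (T : Scheme.{u})).hom.app ⊤))
  have h1 : ((Scheme.ΓSpecIso (.of (MvPolynomial ι Γ((T : Scheme.{u}), ⊤)))).inv ≫
      (AffineSpace.isoOfIsAffine ι (T : Scheme.{u})).hom.appTop ≫ g.appTop ≫ U.topIso.hom).hom.Etale := by
    rw [CommRingCat.hom_comp, RingHom.Etale.respectsIso.cancel_left_isIso, CommRingCat.hom_comp,
      RingHom.Etale.respectsIso.cancel_left_isIso, CommRingCat.hom_comp,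
      RingHom.Etale.respectsIso.cancel_right_isIso]
    exact hgt
  have heq : polyHom f W v h e = ((Scheme.ΓSpecIso (.of (MvPolynomial ι Γ((T : Scheme.{u}), ⊤)))).inv ≫
      (AffineSpace.isoOfIsAffine ι (T : Scheme.{u})).hom.appTop ≫ g.appTop ≫ U.topIso.hom).hom.comp
        m.toRingHom := by
    refine MvPolynomial.ringHom_ext (fun c => ?_) fun i => ?_
    · simp only [polyHom, MvPolynomial.eval₂Hom_C, RingHom.comp_apply, RingEquiv.toRingHom_eq_coe,
        RingHom.coe_coe, m, MvPolynomial.mapEquiv_apply, MvPolynomial.map_C, CommRingCat.hom_comp,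
        AffineSpace.isoOfIsAffine_hom_appTop, Iso.inv_hom_id_apply, CommRingCat.hom_ofHom]
      show _ = U.topIso.hom ((((𝔸(ι; T) ↘ (T : Scheme.{u})).appTop ≫ g.appTop)) (T.topIso.inv c))
      rw [← Scheme.Hom.comp_appTop, show g ≫ (𝔸(ι; T) ↘ (T : Scheme.{u})) = f.resLE T U e from
        AffineSpace.homOfVector_over _ _, show (f.resLE T U e).appTop = (f.resLE T U e).app ⊤ from rfl,
        Scheme.Hom.resLE_app_top]
      simp only [CommRingCat.comp_apply, Iso.inv_hom_id_apply]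
    · simp only [polyHom, MvPolynomial.eval₂Hom_X', RingHom.comp_apply, RingEquiv.toRingHom_eq_coe,
        RingHom.coe_coe, m, MvPolynomial.mapEquiv_apply, MvPolynomial.map_X, CommRingCat.hom_comp,
        AffineSpace.isoOfIsAffine_hom_appTop, CommRingCat.hom_ofHom]
      rw [Iso.inv_hom_id_apply]
      simp only [MvPolynomial.eval₂Hom_X', g, AffineSpace.homOfVector_appTop_coord, Function.comp_apply]
      rw [topIso_homOfLE_appTop]
  rw [heq]
  exact RingHom.Etale.respectsIso.2 _ m h1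

variable {f} {Ω' : X.Modules} {d : OmegaSh.Der f Ω'}

theorem exists_equiv (hd : OmegaSh.IsUniversal d) {U : X.Opens} (hU : IsAffineOpen U) {T : S.Opens}
    (hT : IsAffineOpen T) (e : U ≤ f ⁻¹ᵁ T) :
    letI := (f.appLE T U e).hom.toAlgebra
    ∃ E : Γ(Ω', U) ≃ₗ[Γ(X, U)] Ω[Γ(X, U)⁄Γ(S, T)],
      ∀ b, E (d.app U b) = KaehlerDifferential.D Γ(S, T) Γ(X, U) b := by
  let _ := (f.appLE T U e).hom.toAlgebra
  obtain ⟨i, hi⟩ := Synt29.OmegaStalk.exists_iso_chart hd hU hT e
  refine ⟨(QCoh.chartEquiv hU Ω').trans (((moduleSpecΓFunctor.mapIso i).trans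
    (tilde.isoTop (R := Γ(X, U)) (ModuleCat.of Γ(X, U) (Ω[Γ(X, U)⁄Γ(S, T)]))).symm).toLinearEquiv), fun b => ?_⟩
  show (tilde.isoTop (R := Γ(X, U)) (ModuleCat.of Γ(X, U) (Ω[Γ(X, U)⁄Γ(S, T)]))).inv
    ((moduleSpecΓFunctor.map i.hom) (QCoh.toChart hU Ω' (d.app U b))) = _
  have h1 : QCoh.toChart hU Ω' (d.app U b) =
      (Synt29.OmegaStalk.restrictDer hU.fromSpec d).app ⊤ (OmAff.toΓ Γ(X, U) b) := by
    have hle : hU.fromSpec ''ᵁ ⊤ ≤ U := (QCoh.image_top_fromSpec hU).le
    show Ω'.presheaf.map (homOfLE hle).op (d.app U b) =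
      d.app (hU.fromSpec ''ᵁ ⊤) ((hU.fromSpec.appIso ⊤).inv (OmAff.toΓ Γ(X, U) b))
    rw [← Synt29.OmegaStalk.app_res Ω' d (homOfLE hle) b]
    refine congrArg _ ?_
    apply ((hU.fromSpec.appIso ⊤).commRingCatIsoToRingEquiv).injective
    show (hU.fromSpec.appIso ⊤).hom (X.presheaf.map (homOfLE hle).op b) =
      (hU.fromSpec.appIso ⊤).hom ((hU.fromSpec.appIso ⊤).inv (OmAff.toΓ Γ(X, U) b))
    rw [Iso.inv_hom_id_apply, Scheme.Hom.appIso_hom', ← ConcreteCategory.comp_apply, Scheme.Hom.map_appLE,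
      Scheme.Hom.appLE, hU.fromSpec_app_self, Category.assoc, ← Functor.map_comp]
    rw [show ∀ q : op (⊤ : (Spec Γ(X, U)).Opens) ⟶ op ⊤, (Spec Γ(X, U)).presheaf.map q = 𝟙 _ from
      fun q => by rw [Subsingleton.elim q (𝟙 _), CategoryTheory.Functor.map_id], Category.comp_id]
    rfl
  rw [h1]
  exact (congrArg _ (hi b)).trans (Iso.hom_inv_id_apply _ _)

/-- Etale coordinates give a basis of exact forms. -/
theorem exists_coord_basis (hd : OmegaSh.IsUniversal d) {n : ℕ} (W : X.Opens)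
    (v : ULift.{u} (Fin n) → Γ(W, ⊤)) (het : Etale (AffineSpace.homOfVector (W.ι ≫ f) v))
    {U : X.Opens} (hU : IsAffineOpen U) (h : U ≤ W) {T : S.Opens} (hT : IsAffineOpen T) (e : U ≤ f ⁻¹ᵁ T) :
    ∃ b : Module.Basis (Fin n) Γ(X, U) Γ(Ω', U),
      ∀ l, b l = (d.app U (LogNCD.sectOn W h (v (ULift.up l))) : Γ(Ω', U)) := by
  let _ := (f.appLE T U e).hom.toAlgebra
  obtain ⟨E, hE⟩ := exists_equiv hd hU hT e
  let P := MvPolynomial (ULift.{u} (Fin n)) Γ(S, T)
  let _ : Algebra P Γ(X, U) := (polyHom f W v h e).toAlgebra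
  have : Algebra.Etale P Γ(X, U) := etale_polyHom f W v het hU h hT e
  have : IsScalarTower Γ(S, T) P Γ(X, U) :=
    IsScalarTower.of_algebraMap_eq fun c => (MvPolynomial.eval₂Hom_C (f.appLE T U e).hom _ c).symm
  refine ⟨((((KaehlerDifferential.mvPolynomialBasis Γ(S, T) (ULift.{u} (Fin n))).baseChange Γ(X, U)).map
    (KaehlerDifferential.tensorKaehlerEquivOfFormallyEtale Γ(S, T) P Γ(X, U))).map E.symm).reindex
      Equiv.ulift, fun l => ?_⟩
  rw [Module.Basis.reindex_apply, Module.Basis.map_apply, Module.Basis.map_apply, Module.Basis.baseChange_apply,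
    KaehlerDifferential.tensorKaehlerEquivOfFormallyEtale_apply, KaehlerDifferential.mapBaseChange_tmul, one_smul,
    ← Module.Basis.repr_symm_single_one, KaehlerDifferential.mvPolynomialBasis_repr_symm_single, one_smul,
    KaehlerDifferential.map_D, LinearEquiv.symm_apply_eq, hE]
  exact congrArg _ (MvPolynomial.eval₂Hom_X' (f.appLE T U e).hom _ _)

/-- Coordinates of an etale chart are regular. -/
theorem isRegular_coord {n : ℕ} (W : X.Opens)
    (v : ULift.{u} (Fin n) → Γ(W, ⊤)) (het : Etale (AffineSpace.homOfVector (W.ι ≫ f) v))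
    {U : X.Opens} (hU : IsAffineOpen U) (h : U ≤ W) {T : S.Opens} (hT : IsAffineOpen T) (e : U ≤ f ⁻¹ᵁ T)
    (l : Fin n) : IsRegular (LogNCD.sectOn W h (v (ULift.up l))) := by
  let P := MvPolynomial (ULift.{u} (Fin n)) Γ(S, T)
  let _ : Algebra P Γ(X, U) := (polyHom f W v h e).toAlgebra
  have : Algebra.Etale P Γ(X, U) := etale_polyHom f W v het hU h hT e
  have hX : IsRegular (MvPolynomial.X (ULift.up l) : P) := MvPolynomial.isRegular_X
  have : IsSMulRegular Γ(X, U) (MvPolynomial.X (ULift.up l) : P) :=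
    Module.Flat.isSMulRegular_of_isRegular hX
  suffices hl : IsLeftRegular (LogNCD.sectOn W h (v (ULift.up l))) from
    ⟨hl, hl.right_of_commute fun _ => Commute.all _ _⟩
  intro a b hab
  refine this ?_
  show (MvPolynomial.X (ULift.up l) : P) • a = (MvPolynomial.X (ULift.up l) : P) • b
  rw [Algebra.smul_def, Algebra.smul_def,
    show algebraMap P Γ(X, U) (MvPolynomial.X (ULift.up l)) = LogNCD.sectOn W h (v (ULift.up l)) from
      MvPolynomial.eval₂Hom_X' _ _ _]
  exact hab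

end Groth.Agent.LogModGeo
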