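import Groth.Agent.LogModGeo.Basic
import Groth.Agent.LogModGeo.Coord

/-!
# Forms with simple poles near a point of a normal crossing divisor
-/

set_option autoImplicit false

universe u

open CategoryTheory AlgebraicGeometry Opposite TopologicalSpace

noncomputable section

namespace Groth.Agent.LogModGeo

variable {X S : Scheme.{u}} {f : X ⟶ S} {Ω' : X.Modules} (d : OmegaSh.Der f Ω') {r : ℕ}
  (D : Fin r → X.IdealSheafData)

/-- The complement of the divisor. -/
def away : X.Opens :=
  ⟨(⋃ i, ((D i).support : Set X))ᶜ,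
    (isClosed_iUnion_of_finite fun i => (D i).support.isClosed).isOpen_compl⟩

theorem mem_away {x : X} : x ∈ away D ↔ ∀ i, x ∉ (D i).support := by
  show x ∈ (⋃ i, ((D i).support : Set X))ᶜ ↔ _
  simp

theorem Gens.isUnit_away {D : Fin r → X.IdealSheafData} {U : X.affineOpens} {g : Fin r → Γ(X, U.1)}
    (hg : Gens D U g) {V : X.Opens} (h : V ≤ U.1) (hV : V ≤ away D) : IsUnit (rf h (∏ i, g i)) := by
  rw [map_prod]
  exact IsUnit.prod_univ_iff.2 fun i => hg.isUnit_res i h fun x hx => (mem_away D).1 (hV hx) i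

theorem Gens.basicOpen_le_away {D : Fin r → X.IdealSheafData} {U : X.affineOpens} {g : Fin r → Γ(X, U.1)}
    (hg : Gens D U g) : X.basicOpen (∏ i, g i) ≤ away D := fun x hx => by
  rw [mem_away]
  intro i hi
  have hxU : x ∈ U.1 := X.basicOpen_le _ hx
  have h : x ∈ X.zeroLocus (U := U.1) ((D i).ideal U : Set Γ(X, U.1)) :=
    (((D i).coe_support_inter U) ▸ (⟨hi, hxU⟩ : x ∈ ((D i).support : Set X) ∩ U) :
      x ∈ X.zeroLocus (U := U.1) ((D i).ideal U : Set Γ(X, U.1)) ∩ U).1
  rw [hg i, Scheme.zeroLocus_span, Scheme.zeroLocus_singleton] at h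
  refine h ?_
  rw [← Finset.mul_prod_erase _ _ (Finset.mem_univ i), Scheme.basicOpen_mul] at hx
  exact hx.1

/-- The product of the other equations. -/
def cof {U : X.Opens} (g : Fin r → Γ(X, U)) (i : Fin r) : Γ(X, U) := ∏ j ∈ Finset.univ.erase i, g j

theorem mul_cof {U : X.Opens} (g : Fin r → Γ(X, U)) (i : Fin r) : g i * cof g i = ∏ j, g j :=
  Finset.mul_prod_erase _ _ (Finset.mem_univ i)

/-- The product of the equations times a form with logarithmic poles: `G • (η + Σ aᵢ dgᵢ/gᵢ)`. -/
def form (U : X.Opens) (g : Fin r → Γ(X, U)) (η : Γ(Ω', U)) (a : Fin r → Γ(X, U)) : Γ(Ω', U) :=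
  (∏ i, g i) • η + ∑ i, (a i * cof g i) • d.app U (g i)

theorem form_add (U : X.Opens) (g : Fin r → Γ(X, U)) (η η' : Γ(Ω', U)) (a a' : Fin r → Γ(X, U)) :
    form d U g (η + η') (a + a') = form d U g η a + form d U g η' a' := by
  simp only [form, smul_add, Pi.add_apply, add_mul, add_smul, Finset.sum_add_distrib]
  abel

theorem form_smul (U : X.Opens) (g : Fin r → Γ(X, U)) (c : Γ(X, U)) (η : Γ(Ω', U)) (a : Fin r → Γ(X, U)) :
    form d U g (c • η) (c • a) = c • form d U g η a := by
  simp only [form, smul_add, Finset.smul_sum, Pi.smul_apply, smul_eq_mul, ← mul_smul, mul_assoc]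
  rw [mul_comm (∏ i, g i) c]

theorem form_single (U : X.Opens) (g : Fin r → Γ(X, U)) (i : Fin r) :
    form d U g 0 (Pi.single i 1) = cof g i • d.app U (g i) := by
  rw [form, smul_zero, zero_add, Finset.sum_eq_single i]
  · rw [Pi.single_eq_same, one_mul]
  · intro j _ hj
    rw [Pi.single_eq_of_ne hj, zero_mul, zero_smul]
  · intro h
    exact absurd (Finset.mem_univ i) h

theorem form_res {U V : X.Opens} (h : V ≤ U) (g : Fin r → Γ(X, U)) (η : Γ(Ω', U)) (a : Fin r → Γ(X, U)) :
    rs Ω' h (form d U g η a) = form d V (fun i => rf h (g i)) (rs Ω' h η) (fun i => rf h (a i)) := by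
  simp only [form, cof, map_add, map_sum, rs_smul, map_mul, map_prod, d_res]

/-- The equations of a family change by units. -/
theorem form_units {U : X.Opens} (g : Fin r → Γ(X, U)) (u : Fin r → (Γ(X, U))ˣ) (η : Γ(Ω', U))
    (a : Fin r → Γ(X, U)) :
    form d U (fun i => (u i : Γ(X, U)) * g i) η a =
      (∏ i, (u i : Γ(X, U))) • form d U g (η + ∑ i, (a i * ((u i)⁻¹ : (Γ(X, U))ˣ)) • d.app U (u i : Γ(X, U))) a := by
  have hG : ∏ i, (u i : Γ(X, U)) * g i = (∏ i, (u i : Γ(X, U))) * ∏ i, g i := Finset.prod_mul_distrib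
  have hc : ∀ i, cof (fun j => (u j : Γ(X, U)) * g j) i = cof (fun j => (u j : Γ(X, U))) i * cof g i :=
    fun i => Finset.prod_mul_distrib
  have hu : ∀ i, cof (fun j => (u j : Γ(X, U))) i = (∏ j, (u j : Γ(X, U))) * ((u i)⁻¹ : (Γ(X, U))ˣ) := fun i => by
    rw [← mul_cof (fun j => (u j : Γ(X, U))) i, mul_comm ((u i : Γ(X, U))) _, mul_assoc, Units.mul_inv, mul_one]
  simp only [form, hG, smul_add, Finset.smul_sum, ← mul_smul, add_assoc, ← Finset.sum_add_distrib]
  congr 1
  refine Finset.sum_congr rfl fun i _ => ?_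
  rw [d_mul, smul_add, ← mul_smul, ← mul_smul, hc, hu, add_comm]
  have hmi := Units.mul_inv (u i)
  congr 1
  · congr 1
    rw [← mul_cof g i]
    ring
  · congr 1
    linear_combination (a i * cof g i * ∏ j, (u j : Γ(X, U))) * hmi

variable {d D}

/-- An affine open with coordinates in which the components are coordinate hyperplanes. -/
structure Chart (U : X.affineOpens) where
  /-- the number of coordinates -/
  n : ℕ
  /-- the coordinates -/
  v : Fin n → Γ(X, U.1)
  /-- the coordinate of a component -/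
  comp : Fin r → Option (Fin n)
  comp_inj : ∀ i j l, comp i = some l → comp j = some l → i = j
  regular : ∀ l, IsRegular (v l)
  gens : Gens D U fun i => (comp i).elim 1 v
  /-- the basis of forms -/
  basis : Module.Basis (Fin n) Γ(X, U.1) Γ(Ω', U.1)
  basis_apply : ∀ l, basis l = d.app U.1 (v l)
  basis_res : ∀ (V : X.affineOpens) (h : V.1 ≤ U.1),
    ∃ b : Module.Basis (Fin n) Γ(X, V.1) Γ(Ω', V.1), ∀ l, b l = rs Ω' h (basis l)

theorem exists_chart (hd : OmegaSh.IsUniversal d) (hD : LogNCD.IsNCD D f) {x : X}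
    (hx : Nonempty (LogNCD.Through D x)) {O : X.Opens} (hxO : x ∈ O) :
    ∃ U : X.affineOpens, x ∈ U.1 ∧ U.1 ≤ O ∧ Nonempty (Chart (d := d) (D := D) U) := by
  classical
  obtain ⟨W, hxW, n, w, e, he, het, hcut, hmiss⟩ := hD x hx
  obtain ⟨T, hT, hxT, -⟩ := Opens.isBasis_iff_nbhd.mp S.isBasis_affineOpens (Opens.mem_top (f x))
  obtain ⟨U, hxU, hUle⟩ := exists_affine_nhd (W := O ⊓ W ⊓ f ⁻¹ᵁ T) ⟨⟨hxO, hxW⟩, hxT⟩
  have hUW : U.1 ≤ W := hUle.trans (inf_le_left.trans inf_le_right)
  have hUT : U.1 ≤ f ⁻¹ᵁ T := hUle.trans inf_le_right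
  let comp : Fin r → Option (Fin n) := fun i => if hi : x ∈ (D i).support then some (e ⟨i, hi⟩) else none
  have hsome : ∀ i l, comp i = some l → ∃ hi : x ∈ (D i).support, e ⟨i, hi⟩ = l := fun i l h => by
    by_cases hi : x ∈ (D i).support
    · exact ⟨hi, Option.some.inj ((dif_pos hi).symm.trans h)⟩
    · exact absurd ((dif_neg hi).symm.trans h) (Option.some_ne_none l).symm
  obtain ⟨b, hb⟩ := exists_coord_basis hd W w het U.2 hUW hT hUT
  refine ⟨U, hxU, hUle.trans (inf_le_left.trans inf_le_left),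
    ⟨⟨n, fun l => LogNCD.sectOn W hUW (w (ULift.up l)), comp, ?_, ?_, ?_, b, hb, ?_⟩⟩⟩
  · intro i j l h h'
    obtain ⟨_, e1⟩ := hsome i l h
    obtain ⟨_, e2⟩ := hsome j l h'
    exact congrArg Subtype.val (he (e1.trans e2.symm))
  · exact fun l => isRegular_coord (f := f) W w het U.2 hUW hT hUT l
  · intro i
    show (D i).ideal U = Ideal.span {(comp i).elim 1 _}
    match h : comp i with
    | none =>
      rw [Option.elim_none, Ideal.span_singleton_one]
      exact hmiss i (fun hi => absurd ((dif_pos hi).symm.trans h) (Option.some_ne_none _)) U hUW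
    | some l =>
      obtain ⟨hi, rfl⟩ := hsome i l h
      rw [Option.elim_some]
      exact hcut ⟨i, hi⟩ U hUW
  · intro V h
    obtain ⟨b', hb'⟩ := exists_coord_basis hd W w het V.2 (h.trans hUW) hT (h.trans hUT)
    exact ⟨b', fun l => by rw [hb', hb, ← d_res, sectOn_res]⟩

variable {U : X.affineOpens} (C : Chart (d := d) (D := D) U)

/-- The equations of a chart. -/
def Chart.eqn (i : Fin r) : Γ(X, U.1) := (C.comp i).elim 1 C.v

theorem Chart.gens_eqn : Gens D U C.eqn := C.gens

theorem Chart.regular_eqn (i : Fin r) : IsRegular (C.eqn i) := by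
  rw [Chart.eqn]
  match C.comp i with
  | none => exact isRegular_one
  | some l => exact C.regular l

theorem Chart.regular_cof (i : Fin r) : IsRegular (cof C.eqn i) :=
  IsRegular.prod fun j _ => C.regular_eqn j

/-- Forms on a chart are determined off the divisor. -/
theorem Chart.eq_zero_of_res (C : Chart (d := d) (D := D) U) (η : Γ(Ω', U.1)) (h : rs Ω' (inf_le_left : U.1 ⊓ away D ≤ U.1) η = 0) : η = 0 := by
  let G := ∏ i, C.eqn i
  let V : X.affineOpens := ⟨X.basicOpen G, U.2.basicOpen G⟩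
  have hVU : V.1 ≤ U.1 := X.basicOpen_le G
  have hV : V.1 ≤ U.1 ⊓ away D := le_inf hVU C.gens_eqn.basicOpen_le_away
  have h' : rs Ω' hVU η = 0 := by rw [← rs_rs Ω' inf_le_left hV, h, map_zero]
  obtain ⟨b, hb⟩ := C.basis_res V hVU
  have hc : ∀ l, rf hVU (C.basis.repr η l) = 0 := by
    rw [← C.basis.sum_repr η, map_sum] at h'
    simp only [rs_smul, ← hb] at h'
    exact fun l => Fintype.linearIndependent_iff.1 b.linearIndependent _ h' l
  rw [← C.basis.repr.map_eq_zero_iff]
  refine Finsupp.ext fun l => ?_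
  have := U.2.isLocalization_basicOpen G
  obtain ⟨⟨_, m, rfl⟩, hm⟩ := (IsLocalization.map_eq_zero_iff (Submonoid.powers G) Γ(X, X.basicOpen G) _).1 (hc l)
  exact ((IsRegular.prod fun i (_ : i ∈ Finset.univ) => C.regular_eqn i).pow m).left
    (hm.trans (mul_zero _).symm)

/-- Residues are well defined. -/
theorem Chart.mem_ideal_of_form_eq_zero (η : Γ(Ω', U.1)) (a : Fin r → Γ(X, U.1))
    (h : form d U.1 C.eqn η a = 0) (i : Fin r) : a i ∈ (D i).ideal U := by
  rw [C.gens_eqn i, Chart.eqn]
  match hi : C.comp i with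
  | none => rw [Option.elim_none, Ideal.span_singleton_one]; trivial
  | some l =>
    rw [Option.elim_some]
    have h1 := congrArg (fun z => C.basis.repr z l) h
    simp only [form, map_add, map_smul, map_sum, map_zero, Finsupp.coe_add, Finsupp.coe_smul,
      Finsupp.coe_finsetSum, Finsupp.coe_zero, Pi.add_apply, Pi.smul_apply, Finset.sum_apply, Pi.zero_apply,
      smul_eq_mul] at h1
    have hd : ∀ j, (C.basis.repr (d.app U.1 (C.eqn j)) l : Γ(X, U.1)) = if j = i then 1 else 0 := fun j => by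
      rw [Chart.eqn]
      match hj : C.comp j with
      | none =>
        rw [Option.elim_none, d_one, map_zero, Finsupp.coe_zero, Pi.zero_apply, if_neg]
        rintro rfl
        rw [hi] at hj
        exact absurd hj (Option.some_ne_none _)
      | some l' =>
        rw [Option.elim_some, ← C.basis_apply, C.basis.repr_self_apply]
        by_cases hji : j = i
        · subst hji
          rw [if_pos rfl, if_pos (Option.some.inj (hj.symm.trans hi))]
        · rw [if_neg hji, if_neg (fun e' : l' = l => hji (C.comp_inj j i l (hj.trans (congrArg some e')) hi))]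
    simp only [hd, mul_ite, mul_one, mul_zero, Finset.sum_ite_eq', Finset.mem_univ, if_true] at h1
    rw [← mul_cof C.eqn i, show C.eqn i = C.v l by rw [Chart.eqn, hi, Option.elim_some]] at h1
    refine Ideal.mem_span_singleton.2 ⟨- C.basis.repr η l, ?_⟩
    refine (C.regular_cof i).left ?_
    show cof C.eqn i * a i = cof C.eqn i * (C.v l * -(C.basis.repr η l))
    linear_combination h1

end Groth.Agent.LogModGeo
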