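import Groth.Agent.LogModGeo.Local

/-!
# Decompositions of sections off the divisor as forms with logarithmic poles
-/

set_option autoImplicit false

universe u

open CategoryTheory AlgebraicGeometry Opposite TopologicalSpace

noncomputable section

namespace Groth.Agent.LogModGeo

variable {X S : Scheme.{u}} {f : X ⟶ S} {Ω' : X.Modules} {d : OmegaSh.Der f Ω'} {r : ℕ}
  {D : Fin r → X.IdealSheafData}

/-- `s = η + Σ aᵢ dgᵢ/gᵢ` off the divisor. -/
structure Dec (d : OmegaSh.Der f Ω') (D : Fin r → X.IdealSheafData) (V : X.affineOpens)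
    (s : Γ(poles (away D) Ω', V.1)) (g : Fin r → Γ(X, V.1)) (η : Γ(Ω', V.1)) (a : Fin r → Γ(X, V.1)) : Prop where
  gens : Gens D V g
  eq : (∏ i, g i) • s = tP D Ω' V.1 (form d V.1 g η a)

theorem Dec.zero {V : X.affineOpens} {g : Fin r → Γ(X, V.1)} (hg : Gens D V g) :
    Dec d D V 0 g 0 0 := ⟨hg, by simp [form]⟩

theorem Dec.res {U : X.affineOpens} {s : Γ(poles (away D) Ω', U.1)} {g : Fin r → Γ(X, U.1)}
    {η : Γ(Ω', U.1)} {a : Fin r → Γ(X, U.1)} (H : Dec d D U s g η a) (V : X.affineOpens) (h : V.1 ≤ U.1) :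
    Dec d D V (rs _ h s) (fun i => rf h (g i)) (rs Ω' h η) (fun i => rf h (a i)) := by
  refine ⟨H.gens.res V h, ?_⟩
  rw [← map_prod, ← rs_smul, H.eq, ← form_res]
  exact (app_rs _ h _).symm

theorem Dec.add {U : X.affineOpens} {s t : Γ(poles (away D) Ω', U.1)} {g : Fin r → Γ(X, U.1)}
    {η η' : Γ(Ω', U.1)} {a a' : Fin r → Γ(X, U.1)} (H : Dec d D U s g η a) (H' : Dec d D U t g η' a') :
    Dec d D U (s + t) g (η + η') (a + a') :=
  ⟨H.gens, by rw [smul_add, H.eq, H'.eq, form_add, map_add]⟩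

theorem Dec.smul {U : X.affineOpens} {s : Γ(poles (away D) Ω', U.1)} {g : Fin r → Γ(X, U.1)}
    {η : Γ(Ω', U.1)} {a : Fin r → Γ(X, U.1)} (H : Dec d D U s g η a) (c : Γ(X, U.1)) :
    Dec d D U (c • s) g (c • η) (c • a) :=
  ⟨H.gens, by rw [smul_comm, H.eq, form_smul]; exact ((toPoles (away D) Ω').app_smul c _).symm⟩

variable (hd : OmegaSh.IsUniversal d) (hD : LogNCD.IsNCD D f)
include hd hD

/-- Change of the equations. -/
theorem Dec.change {U : X.affineOpens} {s : Γ(poles (away D) Ω', U.1)} {g g' : Fin r → Γ(X, U.1)}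
    {η : Γ(Ω', U.1)} {a : Fin r → Γ(X, U.1)} (H : Dec d D U s g η a) (hg' : Gens D U g') :
    ∃ η', Dec d D U s g' η' a := by
  obtain ⟨u, hu⟩ := exists_units hd hD H.gens hg'
  obtain rfl : g' = fun i => (u i : Γ(X, U.1)) * g i := funext hu
  refine ⟨η - ∑ i, (a i * ((u i)⁻¹ : (Γ(X, U.1))ˣ)) • d.app U.1 (u i : Γ(X, U.1)), hg', ?_⟩
  rw [form_units, sub_add_cancel, Finset.prod_mul_distrib, mul_smul, H.eq]
  exact ((toPoles (away D) Ω').app_smul _ _).symm

/-- The coefficients of the poles of a form without poles lie in the ideals. -/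
theorem Dec.mem_ideal_of_regular {U : X.affineOpens} {ω : Γ(Ω', U.1)} {g : Fin r → Γ(X, U.1)}
    {η : Γ(Ω', U.1)} {a : Fin r → Γ(X, U.1)} (H : Dec d D U (tP D Ω' U.1 ω) g η a) (i : Fin r) :
    a i • one (D i) U.1 = 0 := by
  refine eq_of_locally _ _ _ fun x hx => ?_
  obtain ⟨V, hxV, hVU, ⟨N⟩⟩ := exists_nice hd hD hx
  refine ⟨V.1, hVU, hxV, ?_⟩
  obtain ⟨η', H'⟩ := (H.res V hVU).change hd hD N.gens
  rw [map_zero, rs_smul, one_res, smul_one_eq_zero_iff]
  have h1 : form d V.1 N.g (η' - rs Ω' hVU ω) (fun i => rf hVU (a i)) = 0 := by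
    refine tP_injective hd hD V.1 ?_
    have h2 : form d V.1 N.g (η' - rs Ω' hVU ω) (fun i => rf hVU (a i)) =
        form d V.1 N.g η' (fun i => rf hVU (a i)) - (∏ i, N.g i) • rs Ω' hVU ω := by
      simp only [form, smul_sub]
      abel
    rw [h2, map_sub, ← H'.eq, map_zero]
    show _ - (toPoles (away D) Ω').app V.1 ((∏ i, N.g i) • rs Ω' hVU ω) = 0
    rw [Scheme.Modules.Hom.app_smul, app_rs]
    exact sub_self _
  exact N.uniq _ _ h1 i

/-- Residues are independent of the decomposition. -/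
theorem Dec.residue_eq {U : X.affineOpens} {s : Γ(poles (away D) Ω', U.1)} {g g' : Fin r → Γ(X, U.1)}
    {η η' : Γ(Ω', U.1)} {a a' : Fin r → Γ(X, U.1)} (H : Dec d D U s g η a) (H' : Dec d D U s g' η' a')
    (i : Fin r) : a i • one (D i) U.1 = a' i • one (D i) U.1 := by
  obtain ⟨η'', H''⟩ := H'.change hd hD H.gens
  have h := H.add (H''.smul (-1))
  rw [neg_one_smul, add_neg_cancel, ← map_zero (tP D Ω' U.1)] at h
  have := h.mem_ideal_of_regular hd hD i
  rwa [Pi.add_apply, Pi.smul_apply, neg_one_smul, add_smul, neg_smul, ← sub_eq_add_neg, sub_eq_zero] at this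

end Groth.Agent.LogModGeo
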