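import Groth.Agent.LogModGeo.Decomp
import Groth.Agent.LogModGeo.Glue
import Groth.Agent.QCoh.Sections
import Groth.Agent.RelTildeX.SheafCrit

/-!
# Properties of any module of forms with logarithmic poles
-/

set_option autoImplicit false

universe u

open CategoryTheory CategoryTheory.Limits AlgebraicGeometry Opposite TopologicalSpace

noncomputable section

namespace Groth.Agent.LogModGeo

variable {X S : Scheme.{u}} {f : X ⟶ S} {Ω' : X.Modules} {d : OmegaSh.Der f Ω'} {r : ℕ}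
  {D : Fin r → X.IdealSheafData}

/-- The logarithmic differentials of equations, with the rules of the binder in elementary form. -/
structure DlogSystem (Λ : LogNCD.LogMod d D) (U : X.affineOpens) (g : Fin r → Γ(X, U.1)) where
  /-- the logarithmic differentials -/
  dl : Fin r → Γ(Λ.L, U.1)
  torsion : ∀ x : Γ(Λ.L, U.1), (∏ i, g i) • x = 0 → x = 0
  smul_dl : ∀ i, g i • dl i = Λ.ι.app U.1 (d.app U.1 (g i))
  decomp : ∀ x : Γ(Λ.L, U.1), ∃ (η : Γ(Ω', U.1)) (a : Fin r → Γ(X, U.1)),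
    x = Λ.ι.app U.1 η + ∑ i, a i • dl i
  res_self : ∀ i, (Λ.res i).app U.1 (dl i) = one (D i) U.1
  res_ne : ∀ i j, i ≠ j → (Λ.res j).app U.1 (dl i) = 0

theorem exists_dlogSystem (Λ : LogNCD.LogMod d D) {U : X.affineOpens} {g : Fin r → Γ(X, U.1)}
    (hg : Gens D U g) : Nonempty (DlogSystem Λ U g) := by
  classical
  obtain ⟨ht, dl, hdl, hspan, h1, h0⟩ := Λ.rule U g hg
  let dl' : Fin r → Γ(Λ.L, U.1) := dl
  have hspan' : Submodule.span Γ(X, U.1) (Set.range (Λ.ι.app U.1) ∪ Set.range dl') =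
      (⊤ : Submodule Γ(X, U.1) Γ(Λ.L, U.1)) := hspan
  refine ⟨⟨dl', ht, hdl, fun x => ?_, h1, h0⟩⟩
  have hx : x ∈ Submodule.span Γ(X, U.1) (Set.range (Λ.ι.app U.1) ∪ Set.range dl') := by
    rw [hspan']; trivial
  rw [Submodule.span_union] at hx
  obtain ⟨y, hy, z, hz, rfl⟩ := Submodule.mem_sup.1 hx
  obtain ⟨a, ha⟩ := (Submodule.mem_span_range_iff_exists_fun Γ(X, U.1)).1 hz
  have hy' : ∃ η : Γ(Ω', U.1), Λ.ι.app U.1 η = y := by
    refine Submodule.span_induction (p := fun y _ => ∃ η : Γ(Ω', U.1), Λ.ι.app U.1 η = y) ?_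
      ⟨0, map_zero _⟩ ?_ ?_ hy
    · rintro _ ⟨η, rfl⟩
      exact ⟨η, rfl⟩
    · rintro a b _ _ ⟨ηa, rfl⟩ ⟨ηb, rfl⟩
      exact ⟨ηa + ηb, map_add (Λ.ι.app U.1).hom ηa ηb⟩
    · rintro c b _ ⟨η, rfl⟩
      exact ⟨c • η, Λ.ι.app_smul c η⟩
  obtain ⟨η, rfl⟩ := hy'
  exact ⟨η, a, by rw [ha]⟩

variable {Λ : LogNCD.LogMod d D} {U : X.affineOpens} {g : Fin r → Γ(X, U.1)} (S₀ : DlogSystem Λ U g)

theorem res_ι_app (i : Fin r) (V : X.Opens) (η : Γ(Ω', V)) : (Λ.res i).app V (Λ.ι.app V η) = 0 :=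
  congr(($(Λ.res_ι i)).app V η)

theorem ι_app_injective (Λ : LogNCD.LogMod d D) (V : X.Opens) : Function.Injective (Λ.ι.app V) := by
  have := Λ.mono
  exact QCoh.app_injective Λ.ι V

/-- The residue of a decomposition. -/
theorem DlogSystem.res_decomp (η : Γ(Ω', U.1)) (a : Fin r → Γ(X, U.1)) (j : Fin r) :
    (Λ.res j).app U.1 (Λ.ι.app U.1 η + ∑ i, a i • S₀.dl i) = a j • one (D j) U.1 := by
  rw [map_add, res_ι_app, zero_add, map_sum, Finset.sum_eq_single j]
  · rw [Scheme.Modules.Hom.app_smul, S₀.res_self]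
  · intro b _ hb
    rw [Scheme.Modules.Hom.app_smul, S₀.res_ne b j hb, smul_zero]
  · intro h
    exact absurd (Finset.mem_univ j) h

/-- The product of the equations moves a decomposition to the forms. -/
theorem DlogSystem.smul_decomp (η : Γ(Ω', U.1)) (a : Fin r → Γ(X, U.1)) :
    (∏ i, g i) • (Λ.ι.app U.1 η + ∑ i, a i • S₀.dl i) = Λ.ι.app U.1 (form d U.1 g η a) := by
  rw [form, map_add, map_sum, smul_add, Finset.smul_sum, Scheme.Modules.Hom.app_smul]
  congr 1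
  refine Finset.sum_congr rfl fun i _ => ?_
  rw [Scheme.Modules.Hom.app_smul, ← S₀.smul_dl, ← mul_smul, ← mul_smul, ← mul_cof g i]
  congr 1
  ring

/-- A section without residues over a chart has no poles. -/
theorem DlogSystem.exists_eq_ι (S₀ : DlogSystem Λ U g) (hg : Gens D U g) (x : Γ(Λ.L, U.1))
    (hx : ∀ j, (Λ.res j).app U.1 x = 0) : ∃ η, Λ.ι.app U.1 η = x := by
  obtain ⟨η, a, rfl⟩ := S₀.decomp x
  have ha : ∀ j, ∃ c, a j = g j * c := fun j => by
    refine Ideal.mem_span_singleton.1 (hg j ▸ ?_)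
    rw [← smul_one_eq_zero_iff, ← S₀.res_decomp η a j, hx j]
  choose c hc using ha
  refine ⟨η + ∑ i, c i • d.app U.1 (g i), ?_⟩
  rw [map_add, map_sum]
  congr 1
  refine Finset.sum_congr rfl fun i _ => ?_
  rw [Scheme.Modules.Hom.app_smul, ← S₀.smul_dl, hc i, mul_comm, mul_smul]

/-- Sections of a product are determined by their components. -/
theorem pi_ext {Q : Fin r → X.Modules} {V : X.Opens} (z z' : Γ(∏ᶜ Q, V))
    (h : ∀ j, (Pi.π Q j).app V z = (Pi.π Q j).app V z') : z = z' := by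
  let F : X.Modules ⥤ Ab.{u} := Scheme.Modules.toPresheaf X ⋙ (evaluation (X.Opens)ᵒᵖ Ab.{u}).obj (op V)
  have hF : PreservesLimit (Discrete.functor Q) F :=
    haveI : PreservesLimit (Discrete.functor Q ⋙ Scheme.Modules.toPresheaf X)
        ((evaluation (X.Opens)ᵒᵖ Ab.{u}).obj (op V)) :=
      PreservesLimitsOfShape.preservesLimit (F := (evaluation (X.Opens)ᵒᵖ Ab.{u}).obj (op V))
    inferInstanceAs (PreservesLimit (Discrete.functor Q) (Scheme.Modules.toPresheaf X ⋙ _))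
  refine Concrete.isLimit_ext _ (isLimitOfPreserves F (limit.isLimit (Discrete.functor Q))) z z' ?_
  rintro ⟨j⟩
  exact h j

variable (hd : OmegaSh.IsUniversal d) (hD : LogNCD.IsNCD D f) (Λ)
include hd hD

/-- The residue sequence is short exact. -/
theorem shortExact_res (h : Λ.ι ≫ Pi.lift Λ.res = 0) : (ShortComplex.mk Λ.ι (Pi.lift Λ.res) h).ShortExact := by
  have hπ : ∀ (j : Fin r) (V : X.Opens) (t : Γ(Λ.L, V)),
      (Pi.π (fun i => ClSub.quotMod (D i)) j).app V ((Pi.lift Λ.res).app V t) = (Λ.res j).app V t :=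
    fun j V t => congr(($(Pi.lift_π Λ.res j)).app V t)
  have hmono : Mono Λ.ι := Λ.mono
  have hepi : Epi (Pi.lift Λ.res) := RelTildeX.epi_of_locally _ fun V z x hx => by
    obtain ⟨W, hxW, hWV, ⟨N⟩⟩ := exists_nice hd hD hx
    obtain ⟨S'⟩ := exists_dlogSystem Λ N.gens
    choose a ha using fun j => exists_smul_one (D j) W
      ((Pi.π (fun i => ClSub.quotMod (D i)) j).app W.1 (rs _ hWV z))
    refine ⟨W.1, hWV, hxW, Λ.ι.app W.1 0 + ∑ i, a i • S'.dl i, pi_ext _ _ fun j => ?_⟩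
    rw [hπ, S'.res_decomp, ha]
  refine ShortComplex.ShortExact.mk (RelTildeX.exact_of_locally _ fun V s hs x hx => ?_)
  obtain ⟨W, hxW, hWV, ⟨N⟩⟩ := exists_nice hd hD hx
  obtain ⟨S'⟩ := exists_dlogSystem Λ N.gens
  refine ⟨W.1, hWV, hxW, S'.exists_eq_ι N.gens _ fun j => ?_⟩
  have hs' : (Pi.lift Λ.res).app V s = 0 := hs
  show (Λ.res j).app W.1 (rs Λ.L hWV s) = 0
  rw [app_rs, ← hπ, hs', map_zero, map_zero]

end Groth.Agent.LogModGeo
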