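import Groth.Agent.LogModGeo.Basic

/-!
# The sections of a module over the trace of an open on a fixed open, as a module
-/

set_option autoImplicit false

universe u

open CategoryTheory AlgebraicGeometry Opposite TopologicalSpace

noncomputable section

namespace Groth.Agent.LogModGeo

variable {X : Scheme.{u}} (A : X.Opens) (M : X.Modules)

/-- The module `U ↦ M(A ∩ U)`. -/
def poles : X.Modules := (Scheme.Modules.pushforward A.ι).obj (M.restrict A.ι)

/-- The trace on `A`. -/
abbrev tr (U : X.Opens) : X.Opens := A.ι ''ᵁ (A.ι ⁻¹ᵁ U)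

theorem tr_le (U : X.Opens) : tr A U ≤ U := A.ι.image_preimage_le U

theorem tr_le_left (U : X.Opens) : tr A U ≤ A := A.ι_image_le _

theorem inf_le_tr (U : X.Opens) : U ⊓ A ≤ tr A U := by
  rw [tr, Scheme.Hom.image_preimage_eq_opensRange_inf, Scheme.Opens.opensRange_ι, inf_comm]

/-- Sections of the trace module as sections over the trace. -/
def trSect (U : X.Opens) : Γ(poles A M, U) →+ Γ(M, tr A U) := AddMonoidHom.id _

theorem trSect_smul (U : X.Opens) (a : Γ(X, U)) (s : Γ(poles A M, U)) :
    trSect A M U (a • s) = rf (tr_le A U) a • trSect A M U s := by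
  show (A.ι.appIso (A.ι ⁻¹ᵁ U)).inv (A.ι.app U a) • trSect A M U s = _
  congr 1
  simp only [Scheme.Opens.ι_appIso, Scheme.Opens.ι_app]
  rfl

theorem trSect_res {U V : X.Opens} (h : V ≤ U) (s : Γ(poles A M, U)) :
    trSect A M V (rs (poles A M) h s) =
      rs M (A.ι.image_mono (A.ι.preimage_mono h) : tr A V ≤ tr A U) (trSect A M U s) := rfl

theorem trSect_injective (U : X.Opens) : Function.Injective (trSect A M U) := fun _ _ h => h

/-- Restriction to the trace, as a morphism. -/
def toPoles : M ⟶ poles A M :=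
  ⟨PresheafOfModules.homMk
    { app := fun U => AddCommGrpCat.ofHom (rs M (tr_le A U.unop))
      naturality := fun U V i => by
        ext x
        show rs M (tr_le A V.unop) (rs M (leOfHom i.unop) x) =
          rs M (A.ι.image_mono (A.ι.preimage_mono (leOfHom i.unop))) (rs M (tr_le A U.unop) x)
        exact (rs_rs M (U := U.unop) _ _ x).trans (rs_rs M (U := U.unop) _ _ x).symm }
    fun U a x => by
      apply trSect_injective
      refine Eq.trans ?_ (trSect_smul A M U.unop a _).symm
      exact rs_smul M (tr_le A U.unop) a x⟩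

theorem trSect_toPoles (U : X.Opens) (x : Γ(M, U)) :
    trSect A M U ((toPoles A M).app U x) = rs M (tr_le A U) x := rfl

/-- Functions invertible on the trace act bijectively. -/
theorem smul_left_cancel {U : X.Opens} {a : Γ(X, U)} (ha : IsUnit (rf (tr_le A U) a))
    {s t : Γ(poles A M, U)} (h : a • s = a • t) : s = t := by
  have h' := congrArg (trSect A M U) h
  rw [trSect_smul, trSect_smul] at h'
  exact trSect_injective A M U (ha.smul_left_cancel.1 h')

theorem exists_smul_eq {U : X.Opens} {a : Γ(X, U)} (ha : IsUnit (rf (tr_le A U) a))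
    (t : Γ(poles A M, U)) : ∃ s : Γ(poles A M, U), a • s = t := by
  let s : Γ(poles A M, U) := ((ha.unit⁻¹ : (Γ(X, tr A U))ˣ) : Γ(X, tr A U)) • trSect A M U t
  refine ⟨s, trSect_injective A M U ?_⟩
  rw [trSect_smul]
  show rf (tr_le A U) a • ((ha.unit⁻¹ : (Γ(X, tr A U))ˣ) : Γ(X, tr A U)) • trSect A M U t = _
  rw [← mul_smul, IsUnit.mul_val_inv, one_smul]

end Groth.Agent.LogModGeo
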