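import Groth.Agent.LogModGeo.Chart
import Groth.Agent.LogModGeo.Poles

/-!
# The local facts on a normal crossing divisor used in the construction of logarithmic forms
-/

set_option autoImplicit false

universe u

open CategoryTheory AlgebraicGeometry Opposite TopologicalSpace

noncomputable section

namespace Groth.Agent.LogModGeo

variable {X S : Scheme.{u}} {f : X ⟶ S} {Ω' : X.Modules} {d : OmegaSh.Der f Ω'} {r : ℕ}
  {D : Fin r → X.IdealSheafData}

/-- The forms as sections of the trace module on the complement of the divisor. -/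
abbrev tP (D : Fin r → X.IdealSheafData) (Ω' : X.Modules) (U : X.Opens) : Γ(Ω', U) →+ Γ(poles (away D) Ω', U) :=
  ((toPoles (away D) Ω').app U).hom

/-- An affine open with equations on which forms are determined off the divisor and residues are well defined. -/
structure Nice (d : OmegaSh.Der f Ω') (D : Fin r → X.IdealSheafData) (U : X.affineOpens) where
  /-- the equations -/
  g : Fin r → Γ(X, U.1)
  gens : Gens D U g
  regular : ∀ i, IsRegular (g i)
  inj : ∀ η : Γ(Ω', U.1), tP D Ω' U.1 η = 0 → η = 0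
  uniq : ∀ (η : Γ(Ω', U.1)) (a : Fin r → Γ(X, U.1)), form d U.1 g η a = 0 → ∀ i, a i ∈ (D i).ideal U

theorem ideal_eq_top_of_le_away {U : X.affineOpens} (h : U.1 ≤ away D) (i : Fin r) : (D i).ideal U = ⊤ := by
  rw [← Ideal.span_eq ((D i).ideal U)]
  refine U.2.self_le_iSup_basicOpen_iff.1 fun x hx => ?_
  by_contra hne
  refine (mem_away D).1 (h hx) i ?_
  have hz : x ∈ X.zeroLocus (U := U.1) ((D i).ideal U : Set Γ(X, U.1)) ∩ U.1 := by
    refine ⟨?_, hx⟩
    rw [Scheme.mem_zeroLocus_iff]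
    exact fun a ha hxa => hne (Opens.mem_iSup.2 ⟨⟨a, ha⟩, hxa⟩)
  exact ((D i).coe_support_inter U ▸ hz : x ∈ ((D i).support : Set X) ∩ U.1).1

theorem exists_nice (hd : OmegaSh.IsUniversal d) (hD : LogNCD.IsNCD D f) {x : X} {O : X.Opens} (hxO : x ∈ O) :
    ∃ U : X.affineOpens, x ∈ U.1 ∧ U.1 ≤ O ∧ Nonempty (Nice d D U) := by
  by_cases hx : Nonempty (LogNCD.Through D x)
  · obtain ⟨U, hxU, hUO, ⟨C⟩⟩ := exists_chart hd hD hx hxO
    refine ⟨U, hxU, hUO, ⟨⟨C.eqn, C.gens_eqn, C.regular_eqn, fun η h => C.eq_zero_of_res η ?_,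
      C.mem_ideal_of_form_eq_zero⟩⟩⟩
    have h0 : rs Ω' (tr_le (away D) U.1) η = 0 := h
    rw [← rs_rs Ω' (tr_le (away D) U.1) (inf_le_tr (away D) U.1), h0, map_zero]
  · have hxA : x ∈ away D := (mem_away D).2 fun i hi => hx ⟨⟨i, hi⟩⟩
    obtain ⟨U, hxU, hU⟩ := exists_affine_nhd (W := O ⊓ away D) ⟨hxO, hxA⟩
    have hUA : U.1 ≤ away D := hU.trans inf_le_right
    refine ⟨U, hxU, hU.trans inf_le_left, ⟨⟨fun _ => 1, fun i => ?_, fun _ => isRegular_one, fun η h => ?_,
      fun η a _ i => ?_⟩⟩⟩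
    · rw [Ideal.span_singleton_one, ideal_eq_top_of_le_away hUA i]
    · have h0 : rs Ω' (tr_le (away D) U.1) η = 0 := h
      have hle : U.1 ≤ tr (away D) U.1 := le_trans (le_inf le_rfl hUA) (inf_le_tr (away D) U.1)
      rw [← rs_refl Ω' η, ← rs_rs Ω' (tr_le (away D) U.1) hle, h0, map_zero]
    · rw [ideal_eq_top_of_le_away hUA i]
      trivial

variable (hd : OmegaSh.IsUniversal d) (hD : LogNCD.IsNCD D f)
include hd hD

/-- Forms are determined off the divisor. -/
theorem tP_injective (U : X.Opens) : Function.Injective (tP D Ω' U) := by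
  refine (injective_iff_map_eq_zero _).2 fun η hη => ?_
  refine eq_of_locally Ω' _ _ fun x hx => ?_
  obtain ⟨V, hxV, hVU, ⟨N⟩⟩ := exists_nice hd hD hx
  refine ⟨V.1, hVU, hxV, (N.inj _ ?_).trans (map_zero _).symm⟩
  show (toPoles (away D) Ω').app V.1 (rs Ω' hVU η) = 0
  rw [app_rs, show (toPoles (away D) Ω').app U η = 0 from hη, map_zero]

/-- Equations of the components are regular. -/
theorem regular_of_gens {U : X.affineOpens} {g : Fin r → Γ(X, U.1)} (hg : Gens D U g) (i : Fin r) :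
    IsRegular (g i) := by
  suffices hl : IsLeftRegular (g i) from ⟨hl, hl.right_of_commute fun _ => Commute.all _ _⟩
  intro a b hab
  refine eq_of_locally_fun a b fun x hx => ?_
  obtain ⟨V, hxV, hVU, ⟨N⟩⟩ := exists_nice hd hD hx
  refine ⟨V.1, hVU, hxV, ?_⟩
  have h1 : Ideal.span {rf hVU (g i)} = Ideal.span {N.g i} := ((hg.res V hVU) i).symm.trans (N.gens i)
  obtain ⟨c, hc⟩ := Ideal.mem_span_singleton.1 (h1 ▸ Ideal.mem_span_singleton_self _ : N.g i ∈ Ideal.span {rf hVU (g i)})
  have h2 := congrArg (rf hVU) hab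
  simp only [map_mul] at h2
  refine (N.regular i).left ?_
  show N.g i * rf hVU a = N.g i * rf hVU b
  rw [hc]
  linear_combination c * h2

/-- Two families of equations differ by units. -/
theorem exists_units {U : X.affineOpens} {g g' : Fin r → Γ(X, U.1)} (hg : Gens D U g) (hg' : Gens D U g') :
    ∃ u : Fin r → (Γ(X, U.1))ˣ, ∀ i, g' i = (u i : Γ(X, U.1)) * g i := by
  have key : ∀ i, ∃ u : (Γ(X, U.1))ˣ, g' i = (u : Γ(X, U.1)) * g i := fun i => by
    have h : Ideal.span {g i} = Ideal.span {g' i} := (hg i).symm.trans (hg' i)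
    obtain ⟨c, hc⟩ := Ideal.mem_span_singleton.1 (h ▸ Ideal.mem_span_singleton_self _ : g' i ∈ Ideal.span {g i})
    obtain ⟨c', hc'⟩ := Ideal.mem_span_singleton.1 (h ▸ Ideal.mem_span_singleton_self _ : g i ∈ Ideal.span {g' i})
    have hcc : c * c' = 1 := by
      refine (regular_of_gens hd hD hg i).left ?_
      show g i * (c * c') = g i * 1
      rw [mul_one, ← mul_assoc, ← hc, ← hc']
    exact ⟨Units.mkOfMulEqOne c c' hcc, by rw [Units.val_mkOfMulEqOne, mul_comm]; exact hc⟩
  choose u hu using key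
  exact ⟨u, hu⟩

end Groth.Agent.LogModGeo
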