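import Groth.Prelude.Def_LogNCD2
import Groth.Agent.LogModGeo.Free
import Groth.Agent.QCoh.TensorSections

/-!
# The residue of a logarithmic connection
-/

set_option autoImplicit false

universe u

open CategoryTheory CategoryTheory.Limits AlgebraicGeometry Opposite TopologicalSpace TensorProduct

noncomputable section

namespace Groth.Agent.LogModGeo

variable {X : Scheme.{u}} (E : X.Modules) (I : X.IdealSheafData)

/-- Restriction of a section of a module to a closed subscheme, as a tensor with one. -/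
def qSect (U : X.Opens) : Γ(E, U) →ₗ[Γ(X, U)] Γ(CohB1.tensorMod E (ClSub.quotMod I), U) :=
  (QCoh.tmLin E (ClSub.quotMod I) U).comp ((TensorProduct.mk Γ(X, U) _ _).flip (one I U))

theorem qSect_apply (U : X.Opens) (e : Γ(E, U)) :
    qSect E I U e = SecTwist.tmul E (ClSub.quotMod I) U e (one I U) := rfl

theorem rs_tmul {M N : X.Modules} {U V : X.Opens} (h : V ≤ U) (m : Γ(M, U)) (n : Γ(N, U)) :
    rs (CohB1.tensorMod M N) h (SecTwist.tmul M N U m n) = SecTwist.tmul M N V (rs M h m) (rs N h n) :=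
  SecTwist.map_tmul M N (homOfLE h) m n

theorem qSect_res {U V : X.Opens} (h : V ≤ U) (e : Γ(E, U)) :
    rs _ h (qSect E I U e) = qSect E I V (rs E h e) := by
  rw [qSect_apply, qSect_apply, rs_tmul, one_res]

theorem unitorR_inv_app (U : X.Opens) (e : Γ(E, U)) :
    (SecTwist.unitorR E).inv.app U e = SecTwist.tmul E (Coh.structureModule X) U e (OmegaSh.strSect X U 1) := by
  have h1 : (SecTwist.unitorR E).hom.app U (SecTwist.tmul E (Coh.structureModule X) U e (OmegaSh.strSect X U 1)) = e :=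
    (SecTwist.unitorR_tmul E U e 1).trans
      (one_smul (X.ringCatSheaf.obj.obj (op U)) (show ↑(E.val.obj (op U)) from e))
  exact (congrArg ((SecTwist.unitorR E).inv.app U) h1).symm.trans
    congr(($((SecTwist.unitorR E).hom_inv_id)).app U
      (SecTwist.tmul E (Coh.structureModule X) U e (OmegaSh.strSect X U 1)))

theorem restrict_app (U : X.Opens) (e : Γ(E, U)) :
    ((SecTwist.unitorR E).inv ≫ KoszTw.tensorMap (𝟙 E) (ClSub.toSubscheme I)).app U e = qSect E I U e := by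
  show (KoszTw.tensorMap (𝟙 E) (ClSub.toSubscheme I)).app U ((SecTwist.unitorR E).inv.app U e) = _
  rw [unitorR_inv_app, KoszTw.tensorMap_tmul]
  rfl

variable {E} (hE : Coh.IsQCoh E)
include hE

theorem qSect_surjective (U : X.affineOpens) : Function.Surjective (qSect E I U.1) := by
  intro z
  obtain ⟨w, rfl⟩ := (QCoh.bijective_tmLin hE (isQCoh_quotMod I) U.2).2 z
  induction w using TensorProduct.induction_on with
  | zero => exact ⟨0, (map_zero _).trans (map_zero (QCoh.tmLin E (ClSub.quotMod I) U.1)).symm⟩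
  | add a b ha hb =>
    obtain ⟨e, he⟩ := ha
    obtain ⟨e', he'⟩ := hb
    exact ⟨e + e', by rw [map_add, map_add, he, he']; rfl⟩
  | tmul e q =>
    obtain ⟨a, rfl⟩ := exists_smul_one I U q
    exact ⟨a • e, congrArg (QCoh.tmLin E (ClSub.quotMod I) U.1) (TensorProduct.smul_tmul a e (one I U.1))⟩

theorem qSect_eq_zero (U : X.affineOpens) {e : Γ(E, U.1)}
    (h : qSect E I U.1 e = 0) : e ∈ I.ideal U • (⊤ : Submodule Γ(X, U.1) Γ(E, U.1)) := by
  have h' : e ⊗ₜ[Γ(X, U.1)] one I U.1 = 0 :=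
    (QCoh.bijective_tmLin hE (isQCoh_quotMod I) U.2).1 (h.trans (map_zero _).symm)
  let g : Γ(X, U.1) →ₗ[Γ(X, U.1)] Γ(ClSub.quotMod I, U.1) := LinearMap.toSpanSingleton _ _ (one I U.1)
  have hex : Function.Exact (I.ideal U).subtype g := fun a => by
    rw [show g a = a • one I U.1 from rfl, smul_one_eq_zero_iff]
    exact ⟨fun ha => ⟨⟨a, ha⟩, rfl⟩, by rintro ⟨b, rfl⟩; exact b.2⟩
  obtain ⟨w, hw⟩ := (lTensor_exact Γ(E, U.1) hex (exists_smul_one I U) (e ⊗ₜ[Γ(X, U.1)] (1 : Γ(X, U.1)))).1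
    (by show e ⊗ₜ[Γ(X, U.1)] ((1 : Γ(X, U.1)) • one I U.1) = 0; rw [one_smul]; exact h')
  have he : TensorProduct.rid Γ(X, U.1) Γ(E, U.1) ((I.ideal U).subtype.lTensor Γ(E, U.1) w) = e := by
    rw [hw, TensorProduct.rid_tmul, one_smul]
  rw [← he]
  clear he hw
  induction w using TensorProduct.induction_on with
  | zero => simp
  | add a b ha hb => rw [map_add, map_add]; exact add_mem ha hb
  | tmul m b =>
    simp only [LinearMap.lTensor_tmul, Submodule.coe_subtype, TensorProduct.rid_tmul]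
    exact Submodule.smul_mem_smul b.2 trivial

theorem smul_restrict_eq_zero (U : X.affineOpens) {b : Γ(X, U.1)} (hb : b ∈ I.ideal U)
    (z : Γ(CohB1.tensorMod E (ClSub.quotMod I), U.1)) : b • z = 0 := by
  obtain ⟨e, rfl⟩ := qSect_surjective I hE U z
  rw [← map_smul]
  show QCoh.tmLin E (ClSub.quotMod I) U.1 ((b • e) ⊗ₜ[Γ(X, U.1)] one I U.1) = 0
  rw [TensorProduct.smul_tmul, (smul_one_eq_zero_iff I U b).2 hb, TensorProduct.tmul_zero, map_zero]

/-- A linear map into the restriction to a closed subscheme factors through the restriction. -/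
theorem exists_factor (ρ : E ⟶ CohB1.tensorMod E (ClSub.quotMod I)) :
    ∃ R : CohB1.tensorMod E (ClSub.quotMod I) ⟶ CohB1.tensorMod E (ClSub.quotMod I),
      (SecTwist.unitorR E).inv ≫ KoszTw.tensorMap (𝟙 E) (ClSub.toSubscheme I) ≫ R = ρ := by
  let T := CohB1.tensorMod E (ClSub.quotMod I)
  let R : ∀ U : X.Opens, Γ(T, U) → Γ(T, U) → Prop := fun U z y =>
    ∀ p ∈ U, ∃ (V : X.affineOpens) (h : V.1 ≤ U), p ∈ V.1 ∧ ∃ e : Γ(E, V.1),
      rs T h z = qSect E I V.1 e ∧ rs T h y = ρ.app V.1 e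
  have shrink : ∀ {U : X.Opens} {z y : Γ(T, U)} {V : X.affineOpens} {h : V.1 ≤ U} {e : Γ(E, V.1)},
      rs T h z = qSect E I V.1 e → rs T h y = ρ.app V.1 e → ∀ (W : X.affineOpens) (hW : W.1 ≤ V.1),
        rs T (hW.trans h) z = qSect E I W.1 (rs E hW e) ∧ rs T (hW.trans h) y = ρ.app W.1 (rs E hW e) := by
    intro U z y V h e h1 h2 W hW
    exact ⟨by rw [← rs_rs T h hW, h1, qSect_res], by rw [← rs_rs T h hW, h2, app_rs]⟩
  refine Exists.elim (exists_hom_of_rel R ?_ ?_ ?_ ?_ ?_) ?_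
  rotate_left 5
  · intro φ hφ
    refine ⟨φ, Scheme.Modules.hom_ext _ _ fun U => AddCommGrpCat.ext fun e => ?_⟩
    show φ.app U (((SecTwist.unitorR E).inv ≫ KoszTw.tensorMap (𝟙 E) (ClSub.toSubscheme I)).app U e) = ρ.app U e
    rw [restrict_app]
    refine hφ U _ _ fun p hp => ?_
    obtain ⟨V, hpV, hVU⟩ := exists_affine_nhd (W := U) hp
    exact ⟨V, hVU, hpV, rs E hVU e, qSect_res E I hVU e, (app_rs ρ hVU e).symm⟩
  · intro U V h z y hR p hp
    obtain ⟨W₀, h₀, hp₀, e, h1, h2⟩ := hR p (h hp)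
    obtain ⟨W, hpW, hW⟩ := exists_affine_nhd (W := W₀.1 ⊓ V) ⟨hp₀, hp⟩
    obtain ⟨a, b⟩ := shrink h1 h2 W (hW.trans inf_le_left)
    exact ⟨W, hW.trans inf_le_right, hpW, _, by rw [rs_rs]; exact a, by rw [rs_rs]; exact b⟩
  · intro U z z' y y' hR hR' p hp
    obtain ⟨V₁, k₁, hp₁, e, h1, h2⟩ := hR p hp
    obtain ⟨V₂, k₂, hp₂, e', h1', h2'⟩ := hR' p hp
    obtain ⟨V, hpV, hV⟩ := exists_affine_nhd (W := V₁.1 ⊓ V₂.1) ⟨hp₁, hp₂⟩
    obtain ⟨a, b⟩ := shrink h1 h2 V (hV.trans inf_le_left)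
    obtain ⟨a', b'⟩ := shrink h1' h2' V (hV.trans inf_le_right)
    exact ⟨V, (hV.trans inf_le_left).trans k₁, hpV, _, by rw [map_add, a, a', ← map_add],
      by rw [map_add, b, b', ← map_add]⟩
  · intro U c z y hR p hp
    obtain ⟨V, h, hpV, e, h1, h2⟩ := hR p hp
    exact ⟨V, h, hpV, rf h c • e, by rw [rs_smul, h1, map_smul],
      by rw [rs_smul, h2, Scheme.Modules.Hom.app_smul]⟩
  · intro U z y y' hR hR'
    refine eq_of_locally _ _ _ fun p hp => ?_
    obtain ⟨V₁, k₁, hp₁, e, h1, h2⟩ := hR p hp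
    obtain ⟨V₂, k₂, hp₂, e', h1', h2'⟩ := hR' p hp
    obtain ⟨V, hpV, hV⟩ := exists_affine_nhd (W := V₁.1 ⊓ V₂.1) ⟨hp₁, hp₂⟩
    obtain ⟨a, b⟩ := shrink h1 h2 V (hV.trans inf_le_left)
    obtain ⟨a', b'⟩ := shrink h1' h2' V (hV.trans inf_le_right)
    refine ⟨V.1, (hV.trans inf_le_left).trans k₁, hpV, b.trans (Eq.trans ?_ b'.symm)⟩
    rw [← sub_eq_zero, ← map_sub]
    have hmem := qSect_eq_zero I hE V
      (show qSect E I V.1 (rs E (hV.trans inf_le_left) e - rs E (hV.trans inf_le_right) e') = 0 by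
        rw [map_sub, ← a, ← a', sub_self])
    refine Submodule.smul_induction_on hmem (fun b hb m _ => ?_) fun x y hx hy => by rw [map_add, hx, hy, add_zero]
    rw [Scheme.Modules.Hom.app_smul]
    exact smul_restrict_eq_zero I hE V hb _
  · intro U z p hp
    obtain ⟨V, hpV, hVU⟩ := exists_affine_nhd (W := U) hp
    obtain ⟨e, he⟩ := qSect_surjective I hE V (rs T hVU z)
    exact ⟨V.1, hVU, hpV, ρ.app V.1 e, fun q hq => ⟨V, le_rfl, hq, e, (rs_refl T _).trans he.symm, rs_refl T _⟩⟩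

end Groth.Agent.LogModGeo

namespace Groth.Agent.LogModGeo

variable {X S : Scheme.{u}} {f : X ⟶ S} {Ω' : X.Modules} {d : OmegaSh.Der f Ω'} {r : ℕ}
  {D : Fin r → X.IdealSheafData} (Λ : LogNCD.LogMod d D) (E : X.Modules)

/-- The residue of a logarithmic connection is linear. -/
theorem exists_isResidue (nabla : Coh.toAb E ⟶ Coh.toAb (CohB1.tensorMod E Λ.L))
    (hc : ConnSh.IsConn (LogNCD.der Λ) E nabla) (i : Fin r) :
    ∃ ρ : E ⟶ CohB1.tensorMod E (ClSub.quotMod (D i)), LogNCD.IsResidue Λ E nabla i ρ := by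
  let ψ := nabla ≫ (SheafOfModules.toSheaf X.ringCatSheaf).map (KoszTw.tensorMap (𝟙 E) (Λ.res i))
  have hψ : ∀ (U : X.Opens) (e : Γ(E, U)), ψ.hom.app (op U) e =
      (KoszTw.tensorMap (𝟙 E) (Λ.res i)).app U (ConnSh.secApp nabla U e) := fun U e => rfl
  have hlin : ∀ (U : X.Opens) (t : Γ(X, U)) (e : Γ(E, U)),
      (KoszTw.tensorMap (𝟙 E) (Λ.res i)).app U (ConnSh.secApp nabla U (t • e)) =
        t • (KoszTw.tensorMap (𝟙 E) (Λ.res i)).app U (ConnSh.secApp nabla U e) := fun U t e => by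
    refine (congrArg ((KoszTw.tensorMap (𝟙 E) (Λ.res i)).app U) (hc U t e)).trans ?_
    refine (map_add ((KoszTw.tensorMap (𝟙 E) (Λ.res i)).app U).hom _ _).trans ?_
    have h0 : (Λ.res i).app U ((LogNCD.der Λ).app U t) = 0 :=
      congr(($(Λ.res_ι i)).app U (d.app U t))
    have h2 : (KoszTw.tensorMap (𝟙 E) (Λ.res i)).app U (SecTwist.tmul E Λ.L U e ((LogNCD.der Λ).app U t)) = 0 := by
      rw [KoszTw.tensorMap_tmul, h0]
      exact (congrArg ((SecTwist.toTensor E (ClSub.quotMod (D i))).app (op U)).hom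
        (TensorProduct.tmul_zero _ _)).trans (map_zero _)
    exact (congrArg₂ (· + ·) ((KoszTw.tensorMap (𝟙 E) (Λ.res i)).app_smul t _) h2).trans (add_zero _)
  refine ⟨⟨PresheafOfModules.homMk ψ.hom fun U t e => ?_⟩, ?_⟩
  · exact hlin U.unop t e
  · rfl

theorem exists_isResidue_factor (hE : FlatMod.IsFinLocFree E)
    (nabla : Coh.toAb E ⟶ Coh.toAb (CohB1.tensorMod E Λ.L))
    (hc : ConnSh.IsConn (LogNCD.der Λ) E nabla) (i : Fin r) :
    ∃ ρ : E ⟶ CohB1.tensorMod E (ClSub.quotMod (D i)), LogNCD.IsResidue Λ E nabla i ρ ∧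
      ∃ R : CohB1.tensorMod E (ClSub.quotMod (D i)) ⟶ CohB1.tensorMod E (ClSub.quotMod (D i)),
        (SecTwist.unitorR E).inv ≫ KoszTw.tensorMap (𝟙 E) (ClSub.toSubscheme (D i)) ≫ R = ρ := by
  obtain ⟨ρ, hρ⟩ := exists_isResidue Λ E nabla hc i
  exact ⟨ρ, hρ, exists_factor (D i) (QCoh.isQCoh_of_isFinLocFree hE) ρ⟩

end Groth.Agent.LogModGeo
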