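import Groth.Agent.LogModGeo.Generic

/-!
# Removing a component of the divisor from the forms with logarithmic poles
-/

set_option autoImplicit false

universe u

open CategoryTheory CategoryTheory.Limits AlgebraicGeometry Opposite TopologicalSpace

noncomputable section

namespace Groth.Agent.LogModGeo

variable {X S : Scheme.{u}} {f : X ⟶ S} {Ω' : X.Modules} {d : OmegaSh.Der f Ω'} {r : ℕ}
  {D : Fin (r + 1) → X.IdealSheafData} {i : Fin (r + 1)} (Λ : LogNCD.LogMod d D)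
  (Λ' : LogNCD.LogMod d (D ∘ i.succAbove)) (hd : OmegaSh.IsUniversal d) (hD : LogNCD.IsNCD D f)

theorem gens_succAbove {U : X.affineOpens} {g : Fin (r + 1) → Γ(X, U.1)} (hg : Gens D U g) :
    Gens (D ∘ i.succAbove) U (g ∘ i.succAbove) := fun j => hg (i.succAbove j)

include hd hD

/-- Sections killed by the equations of the smaller divisor vanish. -/
theorem torsion_res {U : X.affineOpens} {g : Fin (r + 1) → Γ(X, U.1)} (hg : Gens D U g) {V : X.Opens}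
    (hV : V ≤ U.1) (y : Γ(Λ.L, V)) (h : rf hV (∏ j, g (i.succAbove j)) • y = 0) : y = 0 := by
  refine eq_of_locally _ _ _ fun x hx => ?_
  obtain ⟨W, hxW, hW⟩ := exists_affine_nhd (W := V) hx
  obtain ⟨S'⟩ := exists_dlogSystem Λ (hg.res W (hW.trans hV))
  refine ⟨W.1, hW, hxW, ?_⟩
  rw [map_zero]
  refine S'.torsion _ ?_
  have h' := congrArg (rs Λ.L hW) h
  rw [rs_smul, rf_rf, map_zero] at h'
  rw [← map_prod, Fin.prod_univ_succAbove _ i, map_mul, mul_smul, h', smul_zero]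

theorem exists_isSubLog : ∃ κ : Λ'.L ⟶ Λ.L, LogNCD.IsSubLog Λ' Λ κ := by
  classical
  let R : ∀ U : X.Opens, Γ(Λ'.L, U) → Γ(Λ.L, U) → Prop := fun U x y =>
    ∀ p ∈ U, ∃ (V : X.affineOpens) (h : V.1 ≤ U), p ∈ V.1 ∧
      ∃ (g : Fin (r + 1) → Γ(X, V.1)) (ω : Γ(Ω', V.1)), Gens D V g ∧
        (∏ j, g (i.succAbove j)) • rs Λ'.L h x = Λ'.ι.app V.1 ω ∧
        (∏ j, g (i.succAbove j)) • rs Λ.L h y = Λ.ι.app V.1 ω
  -- shrinking the witnesses
  have shrink : ∀ {U : X.Opens} {x : Γ(Λ'.L, U)} {y : Γ(Λ.L, U)} {V : X.affineOpens} {h : V.1 ≤ U}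
      {g : Fin (r + 1) → Γ(X, V.1)} {ω : Γ(Ω', V.1)},
      Gens D V g → (∏ j, g (i.succAbove j)) • rs Λ'.L h x = Λ'.ι.app V.1 ω →
        (∏ j, g (i.succAbove j)) • rs Λ.L h y = Λ.ι.app V.1 ω → ∀ (W : X.affineOpens) (hW : W.1 ≤ V.1),
        Gens D W (fun j => rf hW (g j)) ∧
        (∏ j, rf hW (g (i.succAbove j))) • rs Λ'.L (hW.trans h) x = Λ'.ι.app W.1 (rs Ω' hW ω) ∧
        (∏ j, rf hW (g (i.succAbove j))) • rs Λ.L (hW.trans h) y = Λ.ι.app W.1 (rs Ω' hW ω) := by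
    intro U x y V h g ω hg h1 h2 W hW
    refine ⟨hg.res W hW, ?_, ?_⟩
    · rw [← map_prod, ← rs_rs _ h hW, ← rs_smul, h1, app_rs]
    · rw [← map_prod, ← rs_rs _ h hW, ← rs_smul, h2, app_rs]
  refine Exists.elim (exists_hom_of_rel R ?_ ?_ ?_ ?_ ?_) ?_
  rotate_left 5
  · intro κ hκ
    refine ⟨κ, Scheme.Modules.hom_ext _ _ fun U => AddCommGrpCat.ext fun ω => ?_⟩
    show κ.app U (Λ'.ι.app U ω) = Λ.ι.app U ω
    refine hκ U _ _ fun p hp => ?_
    obtain ⟨V, hpV, hVU, ⟨N⟩⟩ := exists_nice hd hD hp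
    refine ⟨V, hVU, hpV, N.g, (∏ j, N.g (i.succAbove j)) • rs Ω' hVU ω, N.gens, ?_, ?_⟩
    · rw [← app_rs, Scheme.Modules.Hom.app_smul]
    · rw [← app_rs, Scheme.Modules.Hom.app_smul]
  · intro U V h x y hR p hp
    obtain ⟨W₀, h₀, hp₀, g, ω, hg, h1, h2⟩ := hR p (h hp)
    obtain ⟨W, hpW, hW⟩ := exists_affine_nhd (W := W₀.1 ⊓ V) ⟨hp₀, hp⟩
    obtain ⟨a, b, c⟩ := shrink hg h1 h2 W (hW.trans inf_le_left)
    exact ⟨W, hW.trans inf_le_right, hpW, _, _, a, by rw [rs_rs]; exact b, by rw [rs_rs]; exact c⟩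
  · intro U x x' y y' hR hR' p hp
    obtain ⟨V₁, k₁, hp₁, g, ω, hg, h1, h2⟩ := hR p hp
    obtain ⟨V₂, k₂, hp₂, g', ω', hg', h1', h2'⟩ := hR' p hp
    obtain ⟨V, hpV, hV⟩ := exists_affine_nhd (W := V₁.1 ⊓ V₂.1) ⟨hp₁, hp₂⟩
    obtain ⟨a, b, c⟩ := shrink hg h1 h2 V (hV.trans inf_le_left)
    obtain ⟨a', b', c'⟩ := shrink hg' h1' h2' V (hV.trans inf_le_right)
    obtain ⟨u, hu⟩ := exists_units hd hD a' a
    have hG : ∏ j, rf (hV.trans inf_le_left) (g (i.succAbove j)) =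
        (∏ j, (u (i.succAbove j) : Γ(X, V.1))) * ∏ j, rf (hV.trans inf_le_right) (g' (i.succAbove j)) := by
      rw [← Finset.prod_mul_distrib]
      exact Finset.prod_congr rfl fun j _ => hu _
    refine ⟨V, (hV.trans inf_le_left).trans k₁, hpV, _,
      rs Ω' (hV.trans inf_le_left) ω + (∏ j, (u (i.succAbove j) : Γ(X, V.1))) • rs Ω' (hV.trans inf_le_right) ω',
      a, ?_, ?_⟩
    · simp only [map_add, smul_add, Scheme.Modules.Hom.app_smul, b]
      rw [hG, mul_smul, b']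
    · simp only [map_add, smul_add, Scheme.Modules.Hom.app_smul, c]
      rw [hG, mul_smul, c']
  · intro U c x y hR p hp
    obtain ⟨V, h, hpV, g, ω, hg, h1, h2⟩ := hR p hp
    refine ⟨V, h, hpV, g, rf h c • ω, hg, ?_, ?_⟩
    · rw [rs_smul, smul_comm, h1, Scheme.Modules.Hom.app_smul]
    · rw [rs_smul, smul_comm, h2, Scheme.Modules.Hom.app_smul]
  · intro U x y y' hR hR'
    refine eq_of_locally _ _ _ fun p hp => ?_
    obtain ⟨V₁, k₁, hp₁, g, ω, hg, h1, h2⟩ := hR p hp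
    obtain ⟨V₂, k₂, hp₂, g', ω', hg', h1', h2'⟩ := hR' p hp
    obtain ⟨V, hpV, hV⟩ := exists_affine_nhd (W := V₁.1 ⊓ V₂.1) ⟨hp₁, hp₂⟩
    obtain ⟨a, b, c⟩ := shrink hg h1 h2 V (hV.trans inf_le_left)
    obtain ⟨a', b', c'⟩ := shrink hg' h1' h2' V (hV.trans inf_le_right)
    obtain ⟨u, hu⟩ := exists_units hd hD a' a
    have hG : ∏ j, rf (hV.trans inf_le_left) (g (i.succAbove j)) =
        (∏ j, (u (i.succAbove j) : Γ(X, V.1))) * ∏ j, rf (hV.trans inf_le_right) (g' (i.succAbove j)) := by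
      rw [← Finset.prod_mul_distrib]
      exact Finset.prod_congr rfl fun j _ => hu _
    rw [hG, mul_smul, b', ← Scheme.Modules.Hom.app_smul] at b
    have hω := ι_app_injective Λ' V.1 b
    refine ⟨V.1, (hV.trans inf_le_left).trans k₁, hpV,
      sub_eq_zero.1 (torsion_res (i := i) Λ hd hD a le_rfl _ ?_)⟩
    rw [rf_refl, smul_sub, c, ← hω, Scheme.Modules.Hom.app_smul, ← c', ← mul_smul, ← hG, sub_self]
  · intro U x p hp
    obtain ⟨V, hpV, hVU, ⟨N⟩⟩ := exists_nice hd hD hp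
    obtain ⟨S'⟩ := exists_dlogSystem Λ' (gens_succAbove (i := i) N.gens)
    obtain ⟨S⟩ := exists_dlogSystem Λ N.gens
    obtain ⟨η, a, hx⟩ := S'.decomp (rs _ hVU x)
    refine ⟨V.1, hVU, hpV, Λ.ι.app V.1 η + ∑ j, a j • S.dl (i.succAbove j), fun q hq =>
      ⟨V, le_rfl, hq, N.g, form d V.1 (N.g ∘ i.succAbove) η a, N.gens, ?_, ?_⟩⟩
    · rw [rs_refl, hx]
      exact S'.smul_decomp η a
    · rw [rs_refl, form, map_add, map_sum, smul_add, Finset.smul_sum, Scheme.Modules.Hom.app_smul]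
      congr 1
      refine Finset.sum_congr rfl fun j _ => ?_
      rw [Scheme.Modules.Hom.app_smul, Function.comp_apply, ← S.smul_dl, ← mul_smul, ← mul_smul]
      congr 1
      rw [show ∏ l, N.g (i.succAbove l) = ∏ l, (N.g ∘ i.succAbove) l from rfl,
        ← mul_cof (N.g ∘ i.succAbove) j, Function.comp_apply]
      ring

theorem shortExact_subLog (κ : Λ'.L ⟶ Λ.L) (hκ : LogNCD.IsSubLog Λ' Λ κ) (h : κ ≫ Λ.res i = 0) :
    (ShortComplex.mk κ (Λ.res i) h).ShortExact := by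
  classical
  have hι : ∀ (V : X.Opens) (ω : Γ(Ω', V)), κ.app V (Λ'.ι.app V ω) = Λ.ι.app V ω :=
    fun V ω => congr(($(hκ)).app V ω)
  have hmono : Mono κ := QCoh.mono_of_app_injective κ fun U => by
    refine (injective_iff_map_eq_zero (κ.app U).hom).2 fun x hx => ?_
    refine eq_of_locally _ _ _ fun p hp => ?_
    obtain ⟨V, hpV, hVU, ⟨N⟩⟩ := exists_nice hd hD hp
    obtain ⟨S'⟩ := exists_dlogSystem Λ' (gens_succAbove (i := i) N.gens)
    refine ⟨V.1, hVU, hpV, ?_⟩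
    rw [map_zero]
    obtain ⟨η, a, he⟩ := S'.decomp (rs _ hVU x)
    have h2 := S'.smul_decomp η a
    rw [← he] at h2
    have h0 : κ.app V.1 (rs _ hVU x) = 0 := by rw [app_rs, show κ.app U x = 0 from hx, map_zero]
    have h3 := congrArg (κ.app V.1) h2
    rw [Scheme.Modules.Hom.app_smul, h0, smul_zero, hι] at h3
    have h4 := ι_app_injective Λ V.1 (h3.symm.trans (map_zero (Λ.ι.app V.1).hom).symm)
    exact S'.torsion _ (h2.trans (by rw [h4]; exact map_zero _))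
  have hepi : Epi (Λ.res i) := RelTildeX.epi_of_locally _ fun V z x hx => by
    obtain ⟨W, hxW, hWV, ⟨N⟩⟩ := exists_nice hd hD hx
    obtain ⟨S⟩ := exists_dlogSystem Λ N.gens
    obtain ⟨a, ha⟩ := exists_smul_one (D i) W (rs _ hWV z)
    exact ⟨W.1, hWV, hxW, a • S.dl i, by rw [Scheme.Modules.Hom.app_smul, S.res_self, ha]⟩
  refine ShortComplex.ShortExact.mk (RelTildeX.exact_of_locally _ fun V s hs x hx => ?_)
  obtain ⟨W, hxW, hWV, ⟨N⟩⟩ := exists_nice hd hD hx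
  obtain ⟨S⟩ := exists_dlogSystem Λ N.gens
  obtain ⟨S'⟩ := exists_dlogSystem Λ' (gens_succAbove (i := i) N.gens)
  obtain ⟨η, a, he⟩ := S.decomp (rs Λ.L hWV s)
  have hai : a i ∈ (D i).ideal W := by
    rw [← smul_one_eq_zero_iff, ← S.res_decomp η a i, ← he, app_rs]
    have hs' : (Λ.res i).app V s = 0 := hs
    rw [hs', map_zero]
  obtain ⟨c, hc⟩ := Ideal.mem_span_singleton.1 (N.gens i ▸ hai)
  have hdl : ∀ j, κ.app W.1 (S'.dl j) = S.dl (i.succAbove j) := fun j => by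
    refine sub_eq_zero.1 (torsion_res (i := i) Λ hd hD N.gens le_rfl _ ?_)
    rw [rf_refl, show ∏ l, N.g (i.succAbove l) = ∏ l, (N.g ∘ i.succAbove) l from rfl,
      ← mul_cof (N.g ∘ i.succAbove) j, mul_comm, mul_smul, smul_sub, ← Scheme.Modules.Hom.app_smul, S'.smul_dl,
      hι, Function.comp_apply, S.smul_dl, sub_self, smul_zero]
  refine ⟨W.1, hWV, hxW, Λ'.ι.app W.1 (η + c • d.app W.1 (N.g i)) + ∑ j, a (i.succAbove j) • S'.dl j, ?_⟩
  show κ.app W.1 _ = rs Λ.L hWV s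
  rw [he, map_add, map_sum, hι, map_add, Fin.sum_univ_succAbove _ i, hc, mul_comm, mul_smul, S.smul_dl,
    ← Scheme.Modules.Hom.app_smul, add_assoc]
  simp only [Scheme.Modules.Hom.app_smul, hdl]

end Groth.Agent.LogModGeo
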